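import Mathlib

/-! Square-zero thickenings `D → T` of algebras over `A` with kernel `J D`. -/

set_option autoImplicit false
universe u

namespace Groth.Agent.EtLift7

open TensorProduct

variable {A : Type u} [CommRing A] (J : Ideal A)

/-- `π` is surjective with kernel `J D`. -/
structure IsThick {D T : Type u} [CommRing D] [CommRing T] [Algebra A D] [Algebra A T] (π : D →ₐ[A] T) : Prop where
  surj : Function.Surjective π
  ker_eq : RingHom.ker π = J.map (algebraMap A D)

variable {J}
variable {D T D' T' : Type u} [CommRing D] [CommRing T] [Algebra A D] [Algebra A T]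
  [CommRing D'] [CommRing T'] [Algebra A D'] [Algebra A T']

theorem IsThick.mul_eq_zero (hJ : J * J = ⊥) {π : D →ₐ[A] T} (h : IsThick J π) {x : D} (hx : π x = 0)
    {j : A} (hj : j ∈ J) : x * algebraMap A D j = 0 := by
  have hx' : x ∈ J.map (algebraMap A D) := h.ker_eq ▸ hx
  have := Ideal.mul_mem_mul hx' (Ideal.mem_map_of_mem (algebraMap A D) hj)
  rwa [← Ideal.map_mul, hJ, Ideal.map_bot] at this

theorem IsThick.isNilpotent (hJ : J * J = ⊥) {π : D →ₐ[A] T} (h : IsThick J π) : IsNilpotent (RingHom.ker π) :=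
  ⟨2, by rw [h.ker_eq, ← Ideal.map_pow, sq, hJ, Ideal.map_bot]; rfl⟩

/-- Maps out of an unramified algebra are determined modulo `J`. -/
theorem IsThick.ext (hJ : J * J = ⊥) {π : D →ₐ[A] T} (h : IsThick J π) {L : Type u} [CommRing L] [Algebra A L]
    [Algebra.FormallyUnramified A L] {f g : L →ₐ[A] D} (hfg : π.comp f = π.comp g) : f = g :=
  Algebra.FormallyUnramified.ext' π.toRingHom (h.isNilpotent hJ) f g fun x => DFunLike.congr_fun hfg x

/-- Maps out of a smooth algebra lift. -/
theorem IsThick.exists_lift (hJ : J * J = ⊥) {π : D →ₐ[A] T} (h : IsThick J π) {L : Type u} [CommRing L] [Algebra A L]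
    [Algebra.FormallySmooth A L] (f : L →ₐ[A] T) : ∃ g : L →ₐ[A] D, π.comp g = f :=
  ⟨Algebra.FormallySmooth.liftOfSurjective f π h.surj (h.isNilpotent hJ),
    AlgHom.ext fun x => Algebra.FormallySmooth.liftOfSurjective_apply f π h.surj (h.isNilpotent hJ) x⟩

/-- The multiplication map into the kernel. -/
noncomputable def kap (hJ : J * J = ⊥) {π : D →ₐ[A] T} (h : IsThick J π) : T ⊗[A] J →ₗ[A] D :=
  TensorProduct.lift <| LinearMap.mk₂ A (fun x j => Function.surjInv h.surj x * algebraMap A D j)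
    (fun x y j => by
      rw [← sub_eq_zero, ← add_mul, ← sub_mul]
      exact h.mul_eq_zero hJ (by simp [Function.surjInv_eq h.surj]) j.2)
    (fun c x j => by
      rw [← sub_eq_zero, ← smul_mul_assoc, ← sub_mul]
      exact h.mul_eq_zero hJ (by simp [Function.surjInv_eq h.surj]) j.2)
    (fun x j k => by simp [mul_add])
    (fun c x j => by simp [Algebra.smul_def]; ring)

theorem kap_tmul (hJ : J * J = ⊥) {π : D →ₐ[A] T} (h : IsThick J π) (d : D) (j : J) :
    kap hJ h (π d ⊗ₜ j) = d * algebraMap A D j := by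
  show Function.surjInv h.surj (π d) * algebraMap A D (j : A) = _
  rw [← sub_eq_zero, ← sub_mul]
  exact h.mul_eq_zero hJ (by simp [Function.surjInv_eq h.surj]) j.2

theorem kap_mem (hJ : J * J = ⊥) {π : D →ₐ[A] T} (h : IsThick J π) (z : T ⊗[A] J) :
    π (kap hJ h z) = 0 := by
  induction z using TensorProduct.induction_on with
  | zero => simp
  | add x y hx hy => rw [map_add, map_add, hx, hy, add_zero]
  | tmul x j =>
    obtain ⟨d, rfl⟩ := h.surj x
    rw [kap_tmul, show π (d * algebraMap A D (j : A)) = 0 from RingHom.mem_ker.1 (h.ker_eq ▸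
      Ideal.mul_mem_left _ d (Ideal.mem_map_of_mem _ j.2))]

theorem kap_smul (hJ : J * J = ⊥) {π : D →ₐ[A] T} (h : IsThick J π) (d : D) (z : T ⊗[A] J) :
    kap hJ h (π d • z) = d * kap hJ h z := by
  induction z using TensorProduct.induction_on with
  | zero => simp
  | add x y hx hy => rw [smul_add, map_add, map_add, hx, hy, mul_add]
  | tmul x j =>
    obtain ⟨e, rfl⟩ := h.surj x
    rw [smul_tmul', smul_eq_mul, ← map_mul, kap_tmul, kap_tmul, mul_assoc]

theorem exists_kap (hJ : J * J = ⊥) {π : D →ₐ[A] T} (h : IsThick J π) {x : D} (hx : π x = 0) :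
    ∃ z, kap hJ h z = x := by
  have hx' : x ∈ J.map (algebraMap A D) := h.ker_eq ▸ hx
  clear hx
  induction hx' using Submodule.span_induction with
  | mem x hx =>
    obtain ⟨j, hj, rfl⟩ := hx
    exact ⟨π 1 ⊗ₜ ⟨j, hj⟩, by rw [kap_tmul, one_mul]⟩
  | zero => exact ⟨0, map_zero _⟩
  | add x y _ _ hx hy =>
    obtain ⟨z, rfl⟩ := hx; obtain ⟨z', rfl⟩ := hy
    exact ⟨z + z', map_add _ _ _⟩
  | smul c x _ hx =>
    obtain ⟨z, rfl⟩ := hx
    exact ⟨π c • z, kap_smul hJ h c z⟩

theorem kap_injective (hJ : J * J = ⊥) {π : D →ₐ[A] T} (h : IsThick J π) [Module.Flat A D] :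
    Function.Injective (kap hJ h) := by
  let μ : D ⊗[A] J →ₗ[A] D := (TensorProduct.rid A D).toLinearMap ∘ₗ (Submodule.subtype J).lTensor D
  have hμ : Function.Injective μ := (TensorProduct.rid A D).injective.comp
    (Module.Flat.lTensor_preserves_injective_linearMap (M := D) _ Subtype.val_injective)
  have e : (kap hJ h) ∘ₗ π.toLinearMap.rTensor J = μ := TensorProduct.ext' fun d j => by
    show kap hJ h (π d ⊗ₜ j) = (j : A) • d
    rw [kap_tmul, Algebra.smul_def, mul_comm]
  intro x y hxy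
  obtain ⟨x, rfl⟩ := LinearMap.rTensor_surjective J (g := π.toLinearMap) h.surj x
  obtain ⟨y, rfl⟩ := LinearMap.rTensor_surjective J (g := π.toLinearMap) h.surj y
  exact congrArg _ (hμ ((LinearMap.congr_fun e x).symm.trans (hxy.trans (LinearMap.congr_fun e y))))

theorem kap_map (hJ : J * J = ⊥) {π : D →ₐ[A] T} (h : IsThick J π) {π' : D' →ₐ[A] T'} (h' : IsThick J π')
    (g : T →ₐ[A] T') (f : D →ₐ[A] D') (hfg : ∀ d, π' (f d) = g (π d)) (z : T ⊗[A] J) :
    kap hJ h' (g.toLinearMap.rTensor J z) = f (kap hJ h z) := by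
  induction z using TensorProduct.induction_on with
  | zero => simp
  | add x y hx hy => simp [hx, hy]
  | tmul x j =>
    obtain ⟨d, rfl⟩ := h.surj x
    show kap hJ h' (g (π d) ⊗ₜ j) = _
    rw [← hfg, kap_tmul, kap_tmul, map_mul, f.commutes]

/-- Thickenings localize. -/
theorem IsThick.localization {π : D →ₐ[A] T} (h : IsThick J π) (x : D) (DL TL : Type u) [CommRing DL] [CommRing TL]
    [Algebra D DL] [Algebra T TL] [IsLocalization.Away x DL] [IsLocalization.Away (π x) TL]
    [Algebra A DL] [IsScalarTower A D DL] [Algebra A TL] [IsScalarTower A T TL] :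
    ∃ π' : DL →ₐ[A] TL, (∀ d, π' (algebraMap D DL d) = algebraMap T TL (π d)) ∧ IsThick J π' := by
  have hu : IsUnit (((IsScalarTower.toAlgHom A T TL).comp π) x) := IsLocalization.Away.algebraMap_isUnit (π x)
  let π' : DL →ₐ[A] TL := IsLocalization.liftAlgHom (M := Submonoid.powers x) (f := (IsScalarTower.toAlgHom A T TL).comp π)
    fun y => by
      obtain ⟨_, n, rfl⟩ := y
      simpa using hu.pow n
  have hπ' : ∀ d, π' (algebraMap D DL d) = algebraMap T TL (π d) := fun d => IsLocalization.lift_eq _ d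
  refine ⟨π', hπ', fun t => ?_, le_antisymm (fun y hy => ?_) ?_⟩
  · obtain ⟨w, ⟨_, n, rfl⟩, rfl⟩ := IsLocalization.exists_mk'_eq (Submonoid.powers (π x)) t
    obtain ⟨d, rfl⟩ := h.surj w
    refine ⟨IsLocalization.mk' DL d (⟨x ^ n, n, rfl⟩ : Submonoid.powers x), ?_⟩
    rw [eq_comm, IsLocalization.mk'_eq_iff_eq_mul]
    have h2 := congrArg π' (IsLocalization.mk'_spec DL d (⟨x ^ n, n, rfl⟩ : Submonoid.powers x))
    rw [map_mul, hπ', hπ'] at h2
    show algebraMap T TL (π d) = _ * algebraMap T TL (π x ^ n)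
    rw [← map_pow π x n]
    exact h2.symm
  · obtain ⟨d, ⟨_, n, rfl⟩, rfl⟩ := IsLocalization.exists_mk'_eq (Submonoid.powers x) y
    have h2 := congrArg π' (IsLocalization.mk'_spec DL d (⟨x ^ n, n, rfl⟩ : Submonoid.powers x))
    rw [map_mul, hπ', hπ', RingHom.mem_ker.1 hy, zero_mul] at h2
    obtain ⟨⟨_, m, rfl⟩, hm⟩ := (IsLocalization.map_eq_zero_iff (Submonoid.powers (π x)) TL _).1 h2.symm
    have hd : x ^ m * d ∈ J.map (algebraMap A D) := by
      rw [← h.ker_eq, RingHom.mem_ker, map_mul, map_pow]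
      exact hm
    have h3 := Ideal.mem_map_of_mem (algebraMap D DL) hd
    rw [Ideal.map_map, ← IsScalarTower.algebraMap_eq] at h3
    rw [IsLocalization.mk'_eq_mul_mk'_one]
    refine Ideal.mul_mem_right _ _ ?_
    rw [map_mul] at h3
    exact (Ideal.unit_mul_mem_iff_mem _ (by
      rw [map_pow]; exact (IsLocalization.Away.algebraMap_isUnit x).pow m)).1 h3
  · refine Ideal.map_le_iff_le_comap.2 fun j hj => ?_
    show π' (algebraMap A DL j) = 0
    rw [IsScalarTower.algebraMap_apply A D DL, hπ',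
      show π (algebraMap A D j) = 0 from RingHom.mem_ker.1 (h.ker_eq ▸ Ideal.mem_map_of_mem _ hj), map_zero]

end Groth.Agent.EtLift7
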