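import Groth.Agent.EtLift7.Torsion
import Groth.Agent.EtLift7.Kap

/-! Base change of the kernel of a thickening, localizations, products. -/

set_option autoImplicit false
universe u v w

namespace Groth.Agent.EtLift7

open TensorProduct

section Pi

variable {R : Type u} [CommRing R] {S : Type v} [CommRing S] [Algebra R S] {ι : Type*} [Fintype ι] [DecidableEq ι]
  {M : ι → Type w} [∀ i, AddCommGroup (M i)] [∀ i, Module R (M i)]

theorem eq_zero_of_proj (t : S ⊗[R] (∀ i, M i)) (h : ∀ i, (LinearMap.proj i : (∀ i, M i) →ₗ[R] M i).lTensor S t = 0) :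
    t = 0 := by
  refine (TensorProduct.piRight R R S M).injective ?_
  rw [map_zero]
  funext i
  rw [← show (LinearMap.proj i : (∀ i, M i) →ₗ[R] M i).lTensor S t = TensorProduct.piRight R R S M t i from ?_]
  · exact h i
  · clear h
    induction t using TensorProduct.induction_on with
    | zero => simp
    | add x y hx hy => simp [hx, hy]
    | tmul s m => simp

theorem exists_proj (f : ∀ i, S ⊗[R] M i) :
    ∃ t : S ⊗[R] (∀ i, M i), ∀ i, (LinearMap.proj i : (∀ i, M i) →ₗ[R] M i).lTensor S t = f i := by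
  refine ⟨∑ j, (LinearMap.single R M j).lTensor S (f j), fun i => ?_⟩
  rw [map_sum, Finset.sum_eq_single i]
  · rw [← LinearMap.lTensor_comp_apply, LinearMap.proj_comp_single_same, LinearMap.lTensor_id, LinearMap.id_apply]
  · intro j _ hj
    rw [← LinearMap.lTensor_comp_apply, LinearMap.proj_comp_single_ne R M i j (Ne.symm hj), LinearMap.lTensor_zero,
      LinearMap.zero_apply]
  · exact fun h => absurd (Finset.mem_univ i) h

end Pi

variable {A : Type u} [CommRing A] (J : Ideal A) {R : Type u} [CommRing R] [Algebra A R]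
  {T T' : Type u} [CommRing T] [CommRing T'] [Algebra A T] [Algebra A T'] [Algebra R T] [Algebra R T']
  [IsScalarTower A R T] [IsScalarTower A R T']

/-- The map of kernels. -/
noncomputable def nmap (g : T →ₐ[R] T') : T ⊗[A] J →ₗ[R] T' ⊗[A] J :=
  AlgebraTensorModule.map g.toLinearMap LinearMap.id

theorem nmap_apply (g : T →ₐ[R] T') (z : T ⊗[A] J) :
    nmap J g z = (g.restrictScalars A).toLinearMap.rTensor J z := by
  induction z using TensorProduct.induction_on with
  | zero => simp
  | add x y hx hy => simp [hx, hy]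
  | tmul x j => rfl

theorem nmap_comp {T'' : Type u} [CommRing T''] [Algebra A T''] [Algebra R T''] [IsScalarTower A R T'']
    (g : T →ₐ[R] T') (g' : T' →ₐ[R] T'') (z : T ⊗[A] J) : nmap J g' (nmap J g z) = nmap J (g'.comp g) z := by
  induction z using TensorProduct.induction_on with
  | zero => simp
  | add x y hx hy => simp [hx, hy]
  | tmul x j => rfl

theorem nmap_loc (g : T →ₐ[R] T') (α : R)
    [Algebra T T'] [IsScalarTower A T T'] [IsLocalization.Away (algebraMap R T α) T']
    (hg : ∀ x, g x = algebraMap T T' x) :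
    (∀ y, ∃ (n : ℕ) (z : T ⊗[A] J), nmap J g z = α ^ n • y) ∧
      (∀ z, nmap J g z = 0 → ∃ n : ℕ, α ^ n • z = 0) := by
  let M := Submonoid.powers (algebraMap R T α)
  haveI : IsLocalizedModule M (Algebra.linearMap T T') :=
    (isLocalizedModule_iff_isLocalization' M T').2 ‹_›
  have hloc := IsLocalizedModule.rTensor (R := A) (A := T) M (Algebra.linearMap T T') (N := J)
  have e : ∀ z, AlgebraTensorModule.rTensor A J (Algebra.linearMap T T') z = nmap J g z := fun z => by
    induction z using TensorProduct.induction_on with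
    | zero => simp
    | add x y hx hy => rw [map_add, map_add, hx, hy]
    | tmul x j =>
      show algebraMap T T' x ⊗ₜ j = g x ⊗ₜ j
      rw [hg]
  have esmul : ∀ (n : ℕ) (y : T' ⊗[A] J), (algebraMap R T α) ^ n • y = α ^ n • y := fun n y => by
    induction y using TensorProduct.induction_on with
    | zero => simp
    | add x y hx hy => rw [smul_add, smul_add, hx, hy]
    | tmul x j =>
      rw [smul_tmul', smul_tmul']
      congr 1
      rw [Algebra.smul_def, Algebra.smul_def, map_pow, map_pow, ← hg, g.commutes]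
  refine ⟨fun y => ?_, fun z hz => ?_⟩
  · obtain ⟨⟨z, ⟨_, n, rfl⟩⟩, hz⟩ := hloc.surj y
    exact ⟨n, z, by rw [← e, ← hz, Submonoid.smul_def, esmul]⟩
  · rw [← e] at hz
    obtain ⟨⟨_, n, rfl⟩, hn⟩ := hloc.exists_of_eq (hz.trans (map_zero _).symm)
    refine ⟨n, ?_⟩
    rw [Submonoid.smul_def, Submonoid.smul_def, smul_zero] at hn
    rw [← algebraMap_smul T (α ^ n) z, map_pow]
    exact hn

variable {J}
variable {S : Type u} [CommRing S] [Algebra A S] [Algebra R S] [IsScalarTower A R S]
  {D D' : Type u} [CommRing D] [CommRing D'] [Algebra A D] [Algebra A D']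

/-- The base changed kernel map. -/
noncomputable def beta (hJ : J * J = ⊥) {π : D →ₐ[A] S ⊗[R] T} (h : IsThick J π) :
    S ⊗[R] (T ⊗[A] J) →+ D :=
  (kap hJ h).toAddMonoidHom.comp (AlgebraTensorModule.assoc A R S S T J).symm.toAddEquiv.toAddMonoidHom

theorem beta_tmul (hJ : J * J = ⊥) {π : D →ₐ[A] S ⊗[R] T} (h : IsThick J π) (s : S) (x : T) (j : J) :
    beta hJ h (s ⊗ₜ (x ⊗ₜ j)) = kap hJ h ((s ⊗ₜ x) ⊗ₜ j) := rfl

theorem beta_injective (hJ : J * J = ⊥) {π : D →ₐ[A] S ⊗[R] T} (h : IsThick J π) [Module.Flat A D] :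
    Function.Injective (beta hJ h) :=
  (kap_injective hJ h).comp (AlgebraTensorModule.assoc A R S S T J).symm.injective

theorem exists_beta (hJ : J * J = ⊥) {π : D →ₐ[A] S ⊗[R] T} (h : IsThick J π) {x : D} (hx : π x = 0) :
    ∃ t, beta hJ h t = x := by
  obtain ⟨z, rfl⟩ := exists_kap hJ h hx
  exact ⟨AlgebraTensorModule.assoc A R S S T J z, congrArg (kap hJ h) (LinearEquiv.symm_apply_apply _ z)⟩

theorem beta_one (hJ : J * J = ⊥) {π : D →ₐ[A] S ⊗[R] T} (h : IsThick J π) {L : Type u} [CommRing L] [Algebra A L]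
    {πL : L →ₐ[A] T} (hL : IsThick J πL) (φ : L →ₐ[A] D) (hφ : ∀ l, π (φ l) = 1 ⊗ₜ πL l) (z : T ⊗[A] J) :
    beta hJ h (1 ⊗ₜ z) = φ (kap hJ hL z) := by
  induction z using TensorProduct.induction_on with
  | zero => rw [tmul_zero, map_zero, map_zero, map_zero]
  | add x y hx hy => rw [tmul_add, map_add, map_add, map_add, hx, hy]
  | tmul x j =>
    obtain ⟨l, rfl⟩ := hL.surj x
    rw [beta_tmul, ← hφ, kap_tmul, kap_tmul, map_mul, φ.commutes]

theorem beta_map (hJ : J * J = ⊥) {π : D →ₐ[A] S ⊗[R] T} (h : IsThick J π) {π' : D' →ₐ[A] S ⊗[R] T'}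
    (h' : IsThick J π') (g : T →ₐ[R] T') (f : D →ₐ[A] D')
    (hfg : ∀ d, π' (f d) = Algebra.TensorProduct.map (AlgHom.id R S) g (π d)) (t : S ⊗[R] (T ⊗[A] J)) :
    beta hJ h' ((nmap J g).lTensor S t) = f (beta hJ h t) := by
  induction t using TensorProduct.induction_on with
  | zero => rw [map_zero, map_zero, map_zero, map_zero]
  | add x y hx hy => rw [map_add, map_add, map_add, map_add, hx, hy]
  | tmul s z =>
    induction z using TensorProduct.induction_on with
    | zero => rw [tmul_zero, map_zero, map_zero, map_zero, map_zero]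
    | add x y hx hy => rw [tmul_add, map_add, map_add, map_add, map_add, hx, hy]
    | tmul x j =>
      obtain ⟨d, hd⟩ := h.surj (s ⊗ₜ x)
      rw [beta_tmul, ← hd, kap_tmul, map_mul, f.commutes, LinearMap.lTensor_tmul,
        show nmap J g (x ⊗ₜ j) = g x ⊗ₜ j from rfl, beta_tmul, ← kap_tmul hJ h', hfg, hd]
      rfl

end Groth.Agent.EtLift7
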