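import Groth.Agent.EtLift7.Basic

/-! The two-term Čech complex of the kernel. -/

set_option autoImplicit false
set_option linter.style.haveILetI false
universe u
set_option maxSynthPendingDepth 5
set_option synthInstance.maxHeartbeats 100000

namespace Groth.Agent.EtLift7

open TensorProduct

section

variable {A : Type u} [CommRing A] {R : Type u} [CommRing R] [Algebra A R] {r : ℕ} (a : Fin r → A)

/-- `R[1/a i]`. -/
abbrev R1 (R : Type u) [CommRing R] [Algebra A R] (i : Fin r) : Type u := Localization.Away (algebraMap A R (a i))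

/-- `R[1/a i][1/a j]`. -/
abbrev R2 (R : Type u) [CommRing R] [Algebra A R] (i j : Fin r) : Type u :=
  Localization.Away (algebraMap A (R1 a R i) (a j))

/-- `R[1/a i][1/a j][1/a k]`. -/
abbrev R3 (R : Type u) [CommRing R] [Algebra A R] (i j k : Fin r) : Type u :=
  Localization.Away (algebraMap A (R2 a R i j) (a k))

theorem isUnit_map_of_isUnit {T T' : Type u} [CommRing T] [CommRing T'] [Algebra A T] [Algebra A T'] (g : T →ₐ[A] T')
    {x : A} (h : IsUnit (algebraMap A T x)) : IsUnit (algebraMap A T' x) := g.commutes x ▸ h.map g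

theorem isUnit_R1 (i : Fin r) : IsUnit (algebraMap A (R1 a R i) (a i)) := by
  rw [IsScalarTower.algebraMap_apply A R (R1 a R i)]
  exact IsLocalization.Away.algebraMap_isUnit _

theorem isUnit_R2_right (i j : Fin r) : IsUnit (algebraMap A (R2 a R i j) (a j)) := by
  rw [IsScalarTower.algebraMap_apply A (R1 a R i) (R2 a R i j)]
  exact IsLocalization.Away.algebraMap_isUnit _

theorem isUnit_R3_right (i j k : Fin r) : IsUnit (algebraMap A (R3 (A := A) a R i j k) (a k)) := by
  rw [IsScalarTower.algebraMap_apply A (R2 a R i j) (R3 a R i j k)]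
  exact IsLocalization.Away.algebraMap_isUnit _

theorem exists_lift_away {T : Type u} [CommRing T] [Algebra A T] [Algebra R T] [IsScalarTower A R T] (i : Fin r)
    (h : IsUnit (algebraMap A T (a i))) : ∃ g : R1 a R i →ₐ[R] T, ∀ x, g (algebraMap R (R1 a R i) x) = algebraMap R T x := by
  refine ⟨IsLocalization.liftAlgHom (M := Submonoid.powers (algebraMap A R (a i))) (f := Algebra.ofId R T) fun y => ?_,
    fun x => IsLocalization.lift_eq _ x⟩
  obtain ⟨_, n, rfl⟩ := y
  show IsUnit (algebraMap R T (algebraMap A R (a i) ^ n))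
  rw [map_pow, ← IsScalarTower.algebraMap_apply]
  exact h.pow n

theorem hom_ext_away {T : Type u} [CommRing T] [Algebra R T] (i : Fin r) (f g : R1 a R i →ₐ[R] T) : f = g :=
  AlgHom.coe_ringHom_injective (IsLocalization.ringHom_ext (Submonoid.powers (algebraMap A R (a i)))
    (RingHom.ext fun x => by
      show f (algebraMap R _ x) = g (algebraMap R _ x)
      rw [f.commutes, g.commutes]))

end

variable {A : Type u} [CommRing A] {J : Ideal A}

theorem IsThick.lift_surjective (hJ : J * J = ⊥) {D T : Type u} [CommRing D] [CommRing T] [Algebra A D] [Algebra A T]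
    {π : D →ₐ[A] T} (h : IsThick J π) (K : Subalgebra A D) (hK : ∀ t, ∃ d ∈ K, π d = t) : K = ⊤ := by
  refine eq_top_iff.2 fun x _ => ?_
  obtain ⟨d, hd, hdx⟩ := hK (π x)
  have hx : x - d ∈ J.map (algebraMap A D) := by
    rw [← h.ker_eq, RingHom.mem_ker, map_sub, hdx, sub_self]
  suffices x - d ∈ K by simpa using add_mem this hd
  refine (fun y hy => ?_ : ∀ y ∈ J.map (algebraMap A D), y ∈ K) _ hx
  induction hy using Submodule.span_induction with
  | mem y hy =>
    obtain ⟨j, -, rfl⟩ := hy
    exact K.algebraMap_mem j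
  | zero => exact zero_mem K
  | add y z _ _ hy hz => exact add_mem hy hz
  | smul c y hy' hy =>
    obtain ⟨d, hd, hdc⟩ := hK (π c)
    have hc : (c - d) * y = 0 := by
      have hc' : c - d ∈ J.map (algebraMap A D) := by rw [← h.ker_eq, RingHom.mem_ker, map_sub, hdc, sub_self]
      have := Ideal.mul_mem_mul hc' (show y ∈ J.map (algebraMap A D) from hy')
      rwa [← Ideal.map_mul, hJ, Ideal.map_bot, Ideal.mem_bot] at this
    rw [smul_eq_mul, show c * y = d * y + (c - d) * y by ring, hc, add_zero]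
    exact mul_mem hd hy

theorem away_mul {R : Type u} [CommRing R] [Algebra A R] {r : ℕ} (a : Fin r → A) (i j : Fin r) :
    IsLocalization.Away (algebraMap A R (a i * a j)) (R2 a R i j) := by
  haveI : IsLocalization.Away (algebraMap R (R1 a R i) (algebraMap A R (a j))) (R2 a R i j) := by
    rw [← IsScalarTower.algebraMap_apply]; infer_instance
  rw [map_mul]
  exact IsLocalization.Away.mul' (R1 a R i) (R2 a R i j) _ _

theorem exists_thick_away {D T : Type u} [CommRing D] [CommRing T] [Algebra A D] [Algebra A T]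
    {π : D →ₐ[A] T} (h : IsThick J π) (α : A) (DL TL : Type u) [CommRing DL] [CommRing TL]
    [Algebra D DL] [Algebra T TL] [IsLocalization.Away (algebraMap A D α) DL] [IsLocalization.Away (algebraMap A T α) TL]
    [Algebra A DL] [IsScalarTower A D DL] [Algebra A TL] [IsScalarTower A T TL] :
    ∃ π' : DL →ₐ[A] TL, (∀ d, π' (algebraMap D DL d) = algebraMap T TL (π d)) ∧ IsThick J π' := by
  haveI : IsLocalization.Away (π (algebraMap A D α)) TL := by rw [π.commutes]; infer_instance
  exact h.localization (algebraMap A D α) DL TL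

theorem kap_nmap {R T T' D D' : Type u} [CommRing R] [Algebra A R] [CommRing T] [CommRing T'] [Algebra A T] [Algebra A T']
    [Algebra R T] [Algebra R T'] [IsScalarTower A R T] [IsScalarTower A R T'] [CommRing D] [CommRing D'] [Algebra A D]
    [Algebra A D'] (hJ : J * J = ⊥) {π : D →ₐ[A] T} (h : IsThick J π) {π' : D' →ₐ[A] T'} (h' : IsThick J π')
    (g : T →ₐ[R] T') (f : D →ₐ[A] D') (hfg : ∀ d, π' (f d) = g (π d)) (z : T ⊗[A] J) :
    kap hJ h' (nmap J g z) = f (kap hJ h z) := by
  rw [nmap_apply]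
  exact kap_map hJ h h' (g.restrictScalars A) f hfg z

theorem kap_pow_smul {R T D : Type u} [CommRing R] [Algebra A R] [CommRing T] [Algebra A T] [Algebra R T]
    [IsScalarTower A R T] [CommRing D] [Algebra A D] (hJ : J * J = ⊥) {π : D →ₐ[A] T} (h : IsThick J π)
    (α : A) (n : ℕ) (z : T ⊗[A] J) :
    kap hJ h (algebraMap A R α ^ n • z) = algebraMap A D α ^ n * kap hJ h z := by
  rw [← map_pow, algebraMap_smul, map_smul, Algebra.smul_def, map_pow]

section Complex

variable (J)
variable {R : Type u} [CommRing R] [Algebra A R] {r : ℕ} (a : Fin r → A)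

/-- `R[1/a i] → R[1/a i][1/a j]`. -/
noncomputable abbrev res1 (i j : Fin r) : R1 a R i →ₐ[R] R2 a R i j := IsScalarTower.toAlgHom R _ _

/-- `R[1/a j] → R[1/a i][1/a j]`. -/
noncomputable def res2 (i j : Fin r) : R1 a R j →ₐ[R] R2 a R i j :=
  (exists_lift_away a (R := R) (T := R2 a R i j) j (isUnit_R2_right a i j)).choose

/-- `R → R[1/a i]`. -/
noncomputable abbrev res0 (i : Fin r) : R →ₐ[R] R1 a R i := Algebra.ofId R _

/-- Sections on the open part. -/
abbrev Cx1 (R : Type u) [CommRing R] [Algebra A R] : Type u := ∀ i, R1 a R i ⊗[A] J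

/-- Sections on the overlaps. -/
abbrev Cx2 (R : Type u) [CommRing R] [Algebra A R] : Type u := ∀ p : Fin r × Fin r, R2 a R p.1 p.2 ⊗[A] J

/-- Restriction to the open part. -/
noncomputable def rho : R ⊗[A] J →ₗ[R] Cx1 J a R := LinearMap.pi fun i => nmap J (res0 a i)

/-- The Čech differential. -/
noncomputable def delta : Cx1 J a R →ₗ[R] Cx2 J a R :=
  LinearMap.pi fun p => (nmap J (res1 a p.1 p.2)).comp (LinearMap.proj (φ := fun i => R1 a R i ⊗[A] J) p.1) -
    (nmap J (res2 a p.1 p.2)).comp (LinearMap.proj (φ := fun i => R1 a R i ⊗[A] J) p.2)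

theorem delta_apply (g : Cx1 J a R) (i j : Fin r) :
    delta J a g (i, j) = nmap J (res1 a i j) (g i) - nmap J (res2 a i j) (g j) := rfl

theorem rho_apply (m : R ⊗[A] J) (i : Fin r) : rho J a m i = nmap J (res0 a i) m := rfl

theorem res_comm (i j : Fin r) (z : R ⊗[A] J) :
    nmap J (res1 a i j) (nmap J (res0 a i) z) = nmap J (res2 a i j) (nmap J (res0 a j) z) := by
  rw [nmap_comp, nmap_comp]
  exact congrArg (fun g => nmap J g z) (Subsingleton.elim _ _)

theorem delta_rho : (delta J a (R := R)).comp (rho J a) = 0 :=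
  LinearMap.ext fun z => funext fun p => (sub_eq_zero.2 (res_comm J a p.1 p.2 z) : _)

theorem loc0 (i : Fin r) : (∀ y, ∃ (n : ℕ) (z : R ⊗[A] J), nmap J (res0 a i) z = algebraMap A R (a i) ^ n • y) ∧
    (∀ z, nmap J (res0 a (R := R) i) z = 0 → ∃ n : ℕ, algebraMap A R (a i) ^ n • z = 0) :=
  nmap_loc J (res0 a i) (algebraMap A R (a i)) (fun _ => rfl)

theorem loc1 (i j : Fin r) :
    (∀ y, ∃ (n : ℕ) (z : R1 a R i ⊗[A] J), nmap J (res1 a i j) z = algebraMap A R (a j) ^ n • y) ∧
      (∀ z, nmap J (res1 a (R := R) i j) z = 0 → ∃ n : ℕ, algebraMap A R (a j) ^ n • z = 0) := by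
  haveI : IsLocalization.Away (algebraMap R (R1 a R i) (algebraMap A R (a j))) (R2 a R i j) := by
    rw [← IsScalarTower.algebraMap_apply]; infer_instance
  exact nmap_loc J (res1 a i j) (algebraMap A R (a j)) (fun _ => rfl)

theorem map_span_eq : (Ideal.span (Set.range a)).map (algebraMap A R) = Ideal.span (Set.range fun i => algebraMap A R (a i)) := by
  rw [Ideal.map_span, ← Set.range_comp]; rfl

theorem torsion_ker_rho (m : R ⊗[A] J) (hm : rho J a m = 0) :
    ∃ n : ℕ, ∀ x ∈ (Ideal.span (Set.range a)).map (algebraMap A R) ^ n, x • m = 0 := by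
  obtain ⟨n, hn⟩ := exists_pow_smul_mem (fun i => algebraMap A R (a i)) (map_span_eq a) ⊥ m fun k => by
    obtain ⟨n, hn⟩ := (loc0 J a k).2 m (congrFun hm k)
    exact ⟨n, by rw [hn]; exact zero_mem _⟩
  exact ⟨n, fun x hx => (Submodule.mem_bot R).1 (hn x hx)⟩

theorem torsion_coker_rho (g : Cx1 J a R) (hg : delta J a g = 0) :
    ∃ n : ℕ, ∀ x ∈ (Ideal.span (Set.range a)).map (algebraMap A R) ^ n, x • g ∈ LinearMap.range (rho J a (R := R)) := by
  refine exists_pow_smul_mem (fun i => algebraMap A R (a i)) (map_span_eq a) _ g fun k => ?_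
  obtain ⟨n, z, hz⟩ := (loc0 J a k).1 (g k)
  let α := algebraMap A R (a k)
  have hd : ∀ i, ∃ m : ℕ, α ^ m • (α ^ n • g i - nmap J (res0 a i) z) = 0 := fun i => by
    refine (loc1 J a i k).2 _ ?_
    rw [map_sub, map_smul, res_comm J a i k z, hz, map_smul,
      show nmap J (res1 a i k) (g i) = nmap J (res2 a i k) (g k) from sub_eq_zero.1 (congrFun hg (i, k)), sub_self]
  choose m hm using hd
  refine ⟨Finset.univ.sup m + n, α ^ Finset.univ.sup m • z, funext fun i => ?_⟩
  obtain ⟨d, hd⟩ := Nat.exists_eq_add_of_le (Finset.le_sup (f := m) (Finset.mem_univ i))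
  show nmap J (res0 a i) (α ^ Finset.univ.sup m • z) = α ^ (Finset.univ.sup m + n) • g i
  rw [map_smul, pow_add, mul_smul, eq_comm, ← sub_eq_zero, ← smul_sub, hd, add_comm, pow_add, mul_smul, hm, smul_zero]

end Complex

end Groth.Agent.EtLift7
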