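import Groth.Agent.EtLift7.Setup

/-! Gluing a lift along a nilpotent thickening from a lift on the open part and a flat neighbourhood of the closed part. -/

set_option autoImplicit false
set_option linter.style.haveILetI false
universe u
set_option maxSynthPendingDepth 5
set_option synthInstance.maxHeartbeats 100000

namespace Groth.Agent.EtLift7

open TensorProduct

variable {A : Type u} [CommRing A] {J : Ideal A}
  {R S C : Type u} [CommRing R] [CommRing S] [CommRing C] [Algebra A R] [Algebra A S] [Algebra A C]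
  [Algebra R S] [IsScalarTower A R S] {r : ℕ} {a : Fin r → A}
  {L : Fin r → Type u} [∀ i, CommRing (L i)] [∀ i, Algebra A (L i)] [∀ i, Algebra.Etale A (L i)]
  {πC : C →ₐ[A] S} {πL : ∀ i, L i →ₐ[A] R1 a R i} (D : Setup (C := C) J a πC πL)

theorem pow_mul_eq_zero_of_le {T : Type u} [CommRing T] (x y : T) {k N : ℕ} (h : k ≤ N) (h0 : x ^ k * y = 0) :
    x ^ N * y = 0 := by rw [← Nat.sub_add_cancel h, pow_add, mul_assoc, h0, mul_zero]

/-- The glued algebra. -/
noncomputable def Setup.glue : Subalgebra A (R × C × (∀ i, L i)) where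
  carrier := {x | πC x.2.1 = algebraMap R S x.1 ∧ (∀ i, πL i (x.2.2 i) = algebraMap R _ x.1) ∧
    (∀ i, D.φ i (x.2.2 i) = algebraMap C _ x.2.1) ∧ ∀ i j, lres1 a L i j (x.2.2 i) = D.e2 i j (x.2.2 j)}
  mul_mem' := fun {x y} hx hy => ⟨by simp [hx.1, hy.1], fun i => by simp [hx.2.1 i, hy.2.1 i],
    fun i => by simp [hx.2.2.1 i, hy.2.2.1 i], fun i j => by
      change lres1 a L i j (x.2.2 i * y.2.2 i) = D.e2 i j (x.2.2 j * y.2.2 j)
      rw [map_mul, map_mul, hx.2.2.2 i j, hy.2.2.2 i j]⟩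
  add_mem' := fun {x y} hx hy => ⟨by simp [hx.1, hy.1], fun i => by simp [hx.2.1 i, hy.2.1 i],
    fun i => by simp [hx.2.2.1 i, hy.2.2.1 i], fun i j => by
      change lres1 a L i j (x.2.2 i + y.2.2 i) = D.e2 i j (x.2.2 j + y.2.2 j)
      rw [map_add, map_add, hx.2.2.2 i j, hy.2.2.2 i j]⟩
  algebraMap_mem' := fun c => ⟨by simp [← IsScalarTower.algebraMap_apply],
    fun i => by simp [← IsScalarTower.algebraMap_apply], fun i => by simp [← IsScalarTower.algebraMap_apply],
    fun i j => by simp⟩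

/-- To the reduction. -/
noncomputable def Setup.toR : D.glue →ₐ[A] R := (AlgHom.fst A R _).comp D.glue.val

/-- To the flat neighbourhood. -/
noncomputable def Setup.toC : D.glue →ₐ[A] C := ((AlgHom.fst A C _).comp (AlgHom.snd A R _)).comp D.glue.val

/-- To the open part. -/
noncomputable def Setup.toL (i : Fin r) : D.glue →ₐ[A] L i :=
  ((Pi.evalAlgHom A L i).comp ((AlgHom.snd A C _).comp (AlgHom.snd A R _))).comp D.glue.val

theorem Setup.ext {x y : D.glue} (h1 : D.toR x = D.toR y) (h2 : D.toC x = D.toC y)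
    (h3 : ∀ i, D.toL i x = D.toL i y) : x = y :=
  Subtype.ext (Prod.ext h1 (Prod.ext h2 (funext h3)))

theorem Setup.πC_toC (b : D.glue) : πC (D.toC b) = algebraMap R S (D.toR b) := b.2.1

theorem Setup.πL_toL (i : Fin r) (b : D.glue) : πL i (D.toL i b) = algebraMap R _ (D.toR b) := b.2.2.1 i

theorem Setup.φ_toL (i : Fin r) (b : D.glue) : D.φ i (D.toL i b) = algebraMap C _ (D.toC b) := b.2.2.2.1 i

theorem Setup.res_toL (i j : Fin r) (b : D.glue) : lres1 a L i j (D.toL i b) = D.e2 i j (D.toL j b) := b.2.2.2.2 i j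

variable (hJ : J * J = ⊥) [Module.Flat R S] (hC : IsThick J πC) (hL : ∀ i, IsThick J (πL i))
  (hiso : IsoMod S ((Ideal.span (Set.range a)).map (algebraMap A R)))
  (hCa : ∀ i, Algebra.Etale A (R1 a C i))

include hJ hC hL hiso hCa in
theorem Setup.toR_surjective : Function.Surjective D.toR := fun b => by
  haveI := hCa
  haveI := etale_C2 hCa
  obtain ⟨c, hc⟩ := hC.surj (algebraMap R S b)
  choose l hl using fun i => (hL i).surj (algebraMap R (R1 a R i) b)
  choose e he using fun q : Fin r × Fin r => exists_kap hJ (D.th2 q.1 q.2)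
    (x := lres1 a L q.1 q.2 (l q.1) - D.e2 q.1 q.2 (l q.2))
    (by rw [map_sub, D.hπ2, D.he2, hl, hl, AlgHom.commutes, AlgHom.commutes, sub_self])
  choose f hf using fun i => exists_beta hJ (D.thC1 i) (x := D.φ i (l i) - algebraMap C _ c)
    (by rw [map_sub, D.hφ, hl, D.hπC1, hc, Algebra.algebraMap_eq_smul_one (A := S), smul_tmul,
      ← Algebra.algebraMap_eq_smul_one, sub_self])
  obtain ⟨t, ht⟩ := exists_proj (M := fun i => R1 a R i ⊗[A] J) f
  have hte : (delta J a).lTensor S t = 1 ⊗ₜ e := by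
    refine sub_eq_zero.1 (eq_zero_of_proj (M := fun q : Fin r × Fin r => R2 a R q.1 q.2 ⊗[A] J) _ fun q =>
      beta_injective hJ (D.thC2 q.1 q.2) ?_)
    obtain ⟨i, j⟩ := q
    rw [map_sub, map_sub, map_zero, D.beta_delta hJ, LinearMap.lTensor_tmul, LinearMap.proj_apply,
      beta_one hJ (D.thC2 i j) (D.th2 i j) (D.φ2 i j) (D.hφ2 i j), he (i, j), ht, ht, hf, hf]
    simp only [map_sub, D.φ_res1 hJ, D.φ_res2 hJ, AlgHom.commutes]
    ring
  obtain ⟨g, hg⟩ := hiso.mem_range (P := Cx1 J a R) (Q := Cx2 J a R) (delta J a) e (D.torsion_cocycle hJ hL l e he) t hte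
  have ht' : (delta J a).lTensor S (t - 1 ⊗ₜ g) = 0 := by rw [map_sub, hte, LinearMap.lTensor_tmul, hg, sub_self]
  obtain ⟨g', u, hg', hu⟩ := hiso.exists_decomp (N := R ⊗[A] J) (P := Cx1 J a R) (Q := Cx2 J a R) (rho J a) (delta J a) (delta_rho J a) (torsion_coker_rho J a) _ ht'
  refine ⟨⟨(b, c + beta0 R hJ hC u, fun i => l i - kap hJ (hL i) (g i + g' i)),
    ?_, fun i => ?_, fun i => ?_, fun i j => ?_⟩, rfl⟩
  · show πC (c + beta0 R hJ hC u) = algebraMap R S b
    rw [map_add, hc, beta0_mem, add_zero]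
  · show πL i (l i - _) = _
    rw [map_sub, hl, kap_mem, sub_zero]
  · show D.φ i (l i - _) = algebraMap C _ (c + beta0 R hJ hC u)
    have h1 : f i - 1 ⊗ₜ g i = 1 ⊗ₜ g' i +
        (LinearMap.proj (φ := fun i => R1 a R i ⊗[A] J) i).lTensor S ((rho J a).lTensor S u) := by
      have := congrArg ((LinearMap.proj (φ := fun i => R1 a R i ⊗[A] J) i).lTensor S) hu
      rw [map_sub, map_add, LinearMap.lTensor_tmul, LinearMap.lTensor_tmul, ht] at this
      exact this
    have h2 := congrArg (beta hJ (D.thC1 i)) h1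
    rw [map_sub, map_add, hf, D.beta_rho hJ hC, beta_one hJ (D.thC1 i) (hL i) (D.φ i) (D.hφ i),
      beta_one hJ (D.thC1 i) (hL i) (D.φ i) (D.hφ i)] at h2
    rw [map_sub, map_add, map_add, map_add]
    linear_combination h2
  · show lres1 a L i j (l i - _) = D.e2 i j (l j - _)
    have h1 : kap hJ (D.th2 i j) (delta J a (g + g') (i, j)) = lres1 a L i j (l i) - D.e2 i j (l j) := by
      rw [map_add, hg, hg', add_zero, he (i, j)]
    rw [delta_apply, map_sub, D.kap_res1 hJ hL, D.kap_res2 hJ hL] at h1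
    simp only [Pi.add_apply] at h1
    rw [map_sub, map_sub]
    linear_combination -h1

include hJ hC hL hiso hCa in
theorem Setup.isThick_toR (hJR : ∀ j ∈ J, algebraMap A R j = 0) : IsThick J D.toR := by
  haveI := hCa
  have hsurj := D.toR_surjective hJ hC hL hiso hCa
  refine ⟨hsurj, le_antisymm (fun x hx => ?_) (Ideal.map_le_iff_le_comap.2 fun j hj => by
    show D.toR (algebraMap A D.glue j) = 0
    rw [AlgHom.commutes]
    exact hJR j hj)⟩
  have hx0 : D.toR x = 0 := hx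
  obtain ⟨u, hu⟩ := exists_beta0 (R := R) hJ hC (x := D.toC x) (by rw [D.πC_toC, hx0, map_zero])
  choose g hg using fun i => exists_kap hJ (hL i) (x := D.toL i x) (by rw [D.πL_toL, hx0, map_zero])
  have hδg : delta J a g = 0 := funext fun q => kap_injective hJ (D.th2 q.1 q.2) (by
    rw [delta_apply J a g q.1 q.2, map_sub, D.kap_res1 hJ hL, D.kap_res2 hJ hL, hg, hg, D.res_toL, sub_self,
      Pi.zero_apply, map_zero])
  have hρu : (rho J a).lTensor S u = 1 ⊗ₜ g := sub_eq_zero.1 (eq_zero_of_proj (M := fun i => R1 a R i ⊗[A] J) _ fun i =>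
    beta_injective hJ (D.thC1 i) (by
      rw [map_sub, map_sub, map_zero, D.beta_rho hJ hC, hu, LinearMap.lTensor_tmul, LinearMap.proj_apply,
        beta_one hJ (D.thC1 i) (hL i) (D.φ i) (D.hφ i), hg, D.φ_toL, sub_self]))
  obtain ⟨m, hm⟩ := hiso.mem_range (P := R ⊗[A] J) (Q := Cx1 J a R) (rho J a) g (torsion_coker_rho J a g hδg) u hρu
  obtain ⟨m', hm'0, hm'⟩ := hiso.exists_mem_ker (N := R ⊗[A] J) (P := Cx1 J a R) (rho J a) (torsion_ker_rho J a) (u - 1 ⊗ₜ m)
    (by rw [map_sub, hρu, LinearMap.lTensor_tmul, hm, sub_self])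
  have key : ∀ m : R ⊗[A] J, ∃ y ∈ J.map (algebraMap A D.glue), D.toR y = 0 ∧
      D.toC y = beta0 R hJ hC (1 ⊗ₜ m) ∧ ∀ i, D.toL i y = kap hJ (hL i) (rho J a m i) := fun m => by
    induction m using TensorProduct.induction_on with
    | zero => exact ⟨0, zero_mem _, map_zero _, by simp, fun i => by simp⟩
    | add m₁ m₂ h₁ h₂ =>
      obtain ⟨y₁, hy₁, ha₁, hb₁, hc₁⟩ := h₁; obtain ⟨y₂, hy₂, ha₂, hb₂, hc₂⟩ := h₂
      exact ⟨y₁ + y₂, add_mem hy₁ hy₂, by rw [map_add, ha₁, ha₂, add_zero], by rw [map_add, hb₁, hb₂, tmul_add, map_add],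
        fun i => by rw [map_add, hc₁, hc₂, map_add, Pi.add_apply, map_add]⟩
    | tmul s j =>
      obtain ⟨y, rfl⟩ := hsurj s
      refine ⟨y * algebraMap A D.glue j, Ideal.mul_mem_left _ _ (Ideal.mem_map_of_mem _ j.2), ?_, ?_, fun i => ?_⟩
      · rw [map_mul, AlgHom.commutes, hJR j j.2, mul_zero]
      · rw [map_mul, AlgHom.commutes, beta0_tmul hJ hC (D.toC y) (D.toR y) j (D.πC_toC y)]
      · rw [map_mul, AlgHom.commutes, ← kap_tmul hJ (hL i)]
        congr 2
        exact D.πL_toL i y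
  obtain ⟨y, hy, hy0, hy1, hy2⟩ := key (m + m')
  rw [D.ext (hx0.trans hy0.symm) (by rw [hy1, tmul_add, ← hm', add_sub_cancel, hu])
    (fun i => by rw [hy2, map_add, hm, hm'0, add_zero, hg])]
  exact hy

include hJ hC hL hiso hCa in
theorem Setup.exists_toL (i : Fin r) (l : L i) :
    ∃ (n : ℕ) (b : D.glue), D.toL i b = algebraMap A (L i) (a i) ^ n * l := by
  have hsurj := D.toR_surjective hJ hC hL hiso hCa
  have hu : IsUnit (algebraMap A (L i) (a i)) := by
    obtain ⟨v, hv⟩ := (isUnit_R1 (R := R) a i).exists_right_inv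
    obtain ⟨d, hd⟩ := (hL i).surj v
    have hn : IsNilpotent (1 - algebraMap A (L i) (a i) * d) := by
      obtain ⟨m, hm⟩ := (hL i).isNilpotent hJ
      refine ⟨m, ?_⟩
      have hmem : 1 - algebraMap A (L i) (a i) * d ∈ RingHom.ker (πL i) := by
        rw [RingHom.mem_ker, map_sub, map_one, map_mul, AlgHom.commutes, hd, hv, sub_self]
      simpa [hm] using Ideal.pow_mem_pow hmem m
    exact isUnit_of_mul_isUnit_left (by simpa using hn.isUnit_one_sub)
  let K : Subalgebra A (L i) :=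
    { carrier := {l | ∃ (n : ℕ) (b : D.glue), D.toL i b = algebraMap A (L i) (a i) ^ n * l}
      mul_mem' := fun {x y} ⟨n, b, hb⟩ ⟨m, c, hc⟩ => ⟨n + m, b * c, by rw [map_mul, hb, hc, pow_add]; ring⟩
      add_mem' := fun {x y} ⟨n, b, hb⟩ ⟨m, c, hc⟩ =>
        ⟨n + m, algebraMap A D.glue (a i) ^ m * b + algebraMap A D.glue (a i) ^ n * c, by
          rw [map_add, map_mul, map_mul, map_pow, map_pow, AlgHom.commutes, hb, hc, pow_add]; ring⟩
      algebraMap_mem' := fun c => ⟨0, algebraMap A D.glue c, by rw [AlgHom.commutes, pow_zero, one_mul]⟩ }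
  have hK : K = ⊤ := (hL i).lift_surjective hJ K fun x => by
    obtain ⟨s, ⟨_, n, rfl⟩, rfl⟩ := IsLocalization.exists_mk'_eq (Submonoid.powers (algebraMap A R (a i))) x
    obtain ⟨y, rfl⟩ := hsurj s
    refine ⟨(↑(hu.unit⁻¹) : L i) ^ n * D.toL i y,
      ⟨n, y, by rw [← mul_assoc, ← mul_pow, hu.mul_val_inv, one_pow, one_mul]⟩, ?_⟩
    rw [eq_comm, IsLocalization.mk'_eq_iff_eq_mul]
    show algebraMap R (R1 a R i) (D.toR y) = _ * algebraMap R (R1 a R i) (algebraMap A R (a i) ^ n)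
    rw [← D.πL_toL, map_pow, ← IsScalarTower.algebraMap_apply A R, ← (πL i).commutes (a i), ← map_pow, ← map_mul,
      mul_right_comm, ← mul_pow, hu.val_inv_mul, one_pow, one_mul]
  exact (hK ▸ Algebra.mem_top : l ∈ K)

theorem Setup.toL_eq_zero (i : Fin r) (b : D.glue) (hb : D.toL i b = 0) :
    ∃ n : ℕ, algebraMap A D.glue (a i) ^ n * b = 0 := by
  have h1 : algebraMap R (R1 a R i) (D.toR b) = 0 := by rw [← D.πL_toL, hb, map_zero]
  obtain ⟨⟨_, n1, rfl⟩, hn1⟩ :=
    (IsLocalization.map_eq_zero_iff (Submonoid.powers (algebraMap A R (a i))) (R1 a R i) _).1 h1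
  have h2 : algebraMap C (R1 a C i) (D.toC b) = 0 := by rw [← D.φ_toL, hb, map_zero]
  obtain ⟨⟨_, n2, rfl⟩, hn2⟩ :=
    (IsLocalization.map_eq_zero_iff (Submonoid.powers (algebraMap A C (a i))) (R1 a C i) _).1 h2
  have h3 : ∀ j, ∃ m : ℕ, algebraMap A (L j) (a i) ^ m * D.toL j b = 0 := fun j => by
    have h : algebraMap (L j) (L2 a L j i) (D.toL j b) = 0 := by
      show lres1 a L j i (D.toL j b) = 0
      rw [D.res_toL, hb, map_zero]
    obtain ⟨⟨_, m, rfl⟩, hm⟩ := (IsLocalization.map_eq_zero_iff (Submonoid.powers (algebraMap A (L j) (a i))) _ _).1 h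
    exact ⟨m, hm⟩
  choose m hm using h3
  refine ⟨n1 + n2 + Finset.univ.sup m, D.ext ?_ ?_ fun j => ?_⟩
  · rw [map_mul, map_pow, AlgHom.commutes, map_zero]
    exact pow_mul_eq_zero_of_le _ _ (by omega) hn1
  · rw [map_mul, map_pow, AlgHom.commutes, map_zero]
    exact pow_mul_eq_zero_of_le _ _ (by omega) hn2
  · rw [map_mul, map_pow, AlgHom.commutes, map_zero]
    exact pow_mul_eq_zero_of_le _ _ (le_trans (Finset.le_sup (f := m) (Finset.mem_univ j)) (by omega)) (hm j)

include hJ hC in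
theorem Setup.beta0_one (hθ : IsThick J D.toR) (C' : Type u) [CommRing C'] [Algebra A C'] {π' : C' →ₐ[A] S}
    (hπ' : IsThick J π') (ι' : D.glue →ₐ[A] C') (hι' : ∀ b, π' (ι' b) = algebraMap R S (D.toR b)) (m : R ⊗[A] J) :
    beta0 R hJ hπ' (1 ⊗ₜ m) = ι' (kap hJ hθ m) :=
  beta_one hJ (isThick_pi0 (R := R) hπ') hθ ι' (fun b => by rw [pi0_apply, hι', algebraMap_tmul_one]) m

theorem beta0_comp (hJ : J * J = ⊥) {πC : C →ₐ[A] S} (hC : IsThick J πC) (C' : Type u) [CommRing C'] [Algebra A C']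
    {π' : C' →ₐ[A] S} (hπ' : IsThick J π') (g : C' →ₐ[A] C) (hgπ : πC.comp g = π') (u : S ⊗[R] (R ⊗[A] J)) :
    beta0 R hJ hC u = g (beta0 R hJ hπ' u) := by
  have e : nmap J (AlgHom.id R R) = LinearMap.id := LinearMap.ext fun z => by
    induction z using TensorProduct.induction_on with
    | zero => rw [map_zero, map_zero]
    | add x y hx hy => rw [map_add, map_add, hx, hy]
    | tmul s j => rfl
  have h : beta0 R hJ hC ((nmap J (AlgHom.id R R)).lTensor S u) = g (beta0 R hJ hπ' u) :=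
    beta_map hJ (isThick_pi0 (R := R) hπ') (isThick_pi0 (R := R) hC) (AlgHom.id R R) g (fun d => by
      rw [pi0_apply, pi0_apply, Algebra.TensorProduct.map_tmul, ← hgπ]; rfl) u
  rwa [e, LinearMap.lTensor_id, LinearMap.id_apply] at h

include hJ hC hL hiso hCa in
theorem Setup.injective_of_lift (hJR : ∀ j ∈ J, algebraMap A R j = 0) (C' : Type u) [CommRing C'] [Algebra A C']
    (π' : C' →ₐ[A] S) (hπ' : IsThick J π') (ι' : D.glue →ₐ[A] C') (hι' : ∀ b, π' (ι' b) = algebraMap R S (D.toR b))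
    (g : C' →ₐ[A] C) (hgι : g.comp ι' = D.toC) (hgπ : πC.comp g = π') : Function.Injective g := by
  haveI := hCa
  have hθ := D.isThick_toR hJ hC hL hiso hCa hJR
  refine (injective_iff_map_eq_zero g).2 fun x hx => ?_
  have hπx : π' x = 0 := by rw [← hgπ, AlgHom.comp_apply, hx, map_zero]
  obtain ⟨u, rfl⟩ := exists_beta0 (R := R) hJ hπ' (x := x) hπx
  have hu0 : beta0 R hJ hC u = 0 := by rw [beta0_comp hJ hC C' hπ' g hgπ u, hx]
  have hρu : (rho J a).lTensor S u = 0 := eq_zero_of_proj (M := fun i => R1 a R i ⊗[A] J) _ fun i =>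
    beta_injective hJ (D.thC1 i) (by rw [map_zero, D.beta_rho hJ hC, hu0, map_zero])
  obtain ⟨m, hm, rfl⟩ := hiso.exists_mem_ker (N := R ⊗[A] J) (P := Cx1 J a R) (rho J a) (torsion_ker_rho J a) u hρu
  have h1 := D.beta0_one hJ hC hθ C' hπ' ι' hι' m
  have h2 := D.beta0_one hJ hC hθ C hC D.toC D.πC_toC m
  have h3 : ∀ i, D.toL i (kap hJ hθ m) = 0 := fun i => by
    rw [← kap_nmap hJ hθ (hL i) (res0 a i) (D.toL i) (D.πL_toL i) m, ← rho_apply, hm, Pi.zero_apply, map_zero]
  have h4 : D.toC (kap hJ hθ m) = 0 := h2 ▸ hu0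
  have hz : kap hJ hθ m = 0 :=
    D.ext ((kap_mem hJ hθ m).trans (map_zero _).symm) (h4.trans (map_zero _).symm)
      fun i => (h3 i).trans (map_zero _).symm
  rw [h1, hz, map_zero]

end Groth.Agent.EtLift7
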