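import Groth.Agent.EtLift7.Main

/-! Nilpotent thickenings of arbitrary order. -/

set_option autoImplicit false
set_option linter.style.haveILetI false
universe u

namespace Groth.Agent.EtLift7

open TensorProduct

/-- An isomorphism modulo `I` lifts along nilpotent thickenings. -/
theorem IsoMod.of_thick {A : Type u} [CommRing A] {J I : Ideal A} (hJ : IsNilpotent J) {R S B C : Type u}
    [CommRing R] [CommRing S] [CommRing B] [CommRing C] [Algebra A R] [Algebra A S] [Algebra A B] [Algebra A C]
    [Algebra R S] [Algebra B C] [IsScalarTower A R S] [IsScalarTower A B C] [Module.Flat B C]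
    (h : IsoMod S (I.map (algebraMap A R))) {θ : B →ₐ[A] R} (hθ : IsThick J θ) {π : C →ₐ[A] S} (hπ : IsThick J π)
    (hcomp : ∀ b, π (algebraMap B C b) = algebraMap R S (θ b)) :
    IsoMod C (I.map (algebraMap A B)) := by
  obtain ⟨m, hm⟩ := hJ
  have hIC : (I.map (algebraMap A B)).map (algebraMap B C) = I.map (algebraMap A C) := by
    rw [Ideal.map_map, ← IsScalarTower.algebraMap_eq]
  have hIS : (I.map (algebraMap A R)).map (algebraMap R S) = (I.map (algebraMap A C)).map π := by
    rw [Ideal.map_map, ← IsScalarTower.algebraMap_eq]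
    exact (congrArg (fun f => I.map f) π.comp_algebraMap).symm.trans (Ideal.map_map _ π.toRingHom).symm
  have hIR : I.map (algebraMap A R) = (I.map (algebraMap A B)).map θ :=
    (congrArg (fun f => I.map f) θ.comp_algebraMap).symm.trans (Ideal.map_map _ θ.toRingHom).symm
  have step : ∀ n : ℕ, ∀ c ∈ (⊤ : Ideal C), ∃ b : B, c - algebraMap B C b ∈ I.map (algebraMap A C) ⊔ (J ^ n).map (algebraMap A C) := by
    intro n
    induction n with
    | zero => exact fun c _ => ⟨0, by simp [Ideal.map_top]⟩
    | succ n ih =>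
      have one : ∀ c : C, ∃ b : B, c - algebraMap B C b ∈ I.map (algebraMap A C) ⊔ J.map (algebraMap A C) := fun c => by
        obtain ⟨r, hr⟩ := h.surj (π c)
        obtain ⟨b, rfl⟩ := hθ.surj r
        refine ⟨b, ?_⟩
        rw [← hcomp, ← map_sub, hIS] at hr
        have h1 : c - algebraMap B C b ∈ ((I.map (algebraMap A C)).map π.toRingHom).comap π.toRingHom := hr
        rw [Ideal.comap_map_of_surjective π.toRingHom hπ.surj, ← RingHom.ker_eq_comap_bot] at h1
        exact hπ.ker_eq ▸ h1
      intro c _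
      obtain ⟨b, hb⟩ := ih c trivial
      obtain ⟨y, hy, z, hz, hyz⟩ := Submodule.mem_sup.1 hb
      suffices ∀ z ∈ (J ^ n).map (algebraMap A C),
          ∃ b : B, z - algebraMap B C b ∈ I.map (algebraMap A C) ⊔ (J ^ (n + 1)).map (algebraMap A C) by
        obtain ⟨b', hb'⟩ := this z hz
        refine ⟨b + b', ?_⟩
        rw [map_add, show c - (algebraMap B C b + algebraMap B C b') = y + (z - algebraMap B C b') by
          rw [← sub_sub, ← hyz]; ring]
        exact add_mem (Ideal.mem_sup_left hy) hb'
      intro z hz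
      induction hz using Submodule.span_induction with
      | mem z hz =>
        obtain ⟨j, -, rfl⟩ := hz
        exact ⟨algebraMap A B j, by rw [← IsScalarTower.algebraMap_apply, sub_self]; exact zero_mem _⟩
      | zero => exact ⟨0, by simp⟩
      | add z w _ _ hz hw =>
        obtain ⟨b₁, h₁⟩ := hz; obtain ⟨b₂, h₂⟩ := hw
        refine ⟨b₁ + b₂, ?_⟩
        rw [map_add]
        convert add_mem h₁ h₂ using 1
        ring
      | smul c' z hz' hz =>
        obtain ⟨b₁, h₁⟩ := hz
        obtain ⟨b₂, h₂⟩ := one c'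
        refine ⟨b₂ * b₁, ?_⟩
        rw [show c' • z - algebraMap B C (b₂ * b₁) = algebraMap B C b₂ * (z - algebraMap B C b₁) +
          (c' - algebraMap B C b₂) * z by rw [smul_eq_mul, map_mul]; ring]
        refine add_mem (Ideal.mul_mem_left _ _ h₁) ?_
        obtain ⟨u, hu, v, hv, huv⟩ := Submodule.mem_sup.1 h₂
        rw [← huv, add_mul]
        refine add_mem (Ideal.mem_sup_left (Ideal.mul_mem_right _ _ hu)) (Ideal.mem_sup_right ?_)
        rw [pow_succ', Ideal.map_mul]
        exact Ideal.mul_mem_mul hv hz'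
  refine ⟨fun c => ?_, fun b hb => ?_⟩
  · obtain ⟨b, hb⟩ := step m c trivial
    refine ⟨b, ?_⟩
    rw [hm, Ideal.zero_eq_bot, Ideal.map_bot, sup_bot_eq] at hb
    rwa [hIC]
  · let IB := I.map (algebraMap A B)
    by_contra hne
    let ann : Ideal B := Submodule.comap (LinearMap.toSpanSingleton B B b) IB
    have hann : ann ≠ ⊤ := fun e => hne (by simpa [ann] using (e ▸ Submodule.mem_top : (1 : B) ∈ ann))
    have hC : ann.map (algebraMap B C) = ⊤ := by
      -- flatness: `b` is killed in `C ⧸ IB C`
      let f : (B ⧸ ann) →ₗ[B] B ⧸ IB := Submodule.liftQ ann (IB.mkQ.comp (LinearMap.toSpanSingleton B B b))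
        (fun x hx => (Submodule.Quotient.mk_eq_zero IB).2 hx)
      have hf : Function.Injective f := LinearMap.ker_eq_bot.1 (Submodule.ker_liftQ_eq_bot _ _ _
        (fun x hx => (Submodule.Quotient.mk_eq_zero IB).1 hx))
      have h1 : (1 : C) ⊗ₜ[B] (Ideal.Quotient.mk ann 1) = 0 := by
        refine Module.Flat.lTensor_preserves_injective_linearMap (M := C) f hf ?_
        rw [map_zero, LinearMap.lTensor_tmul, show f (Ideal.Quotient.mk ann 1) = b • (Submodule.Quotient.mk (1 : B) : B ⧸ IB) by
          show IB.mkQ (LinearMap.toSpanSingleton B B b 1) = _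
          rw [LinearMap.toSpanSingleton_apply, one_smul, Submodule.mkQ_apply, ← Submodule.Quotient.mk_smul,
            smul_eq_mul, mul_one], ← smul_tmul, ← Algebra.algebraMap_eq_smul_one]
        have key : ∀ x ∈ IB.map (algebraMap B C), x ⊗ₜ[B] (Submodule.Quotient.mk (1 : B) : B ⧸ IB) = 0 := by
          intro x hx
          induction hx using Submodule.span_induction with
          | mem x hx =>
            obtain ⟨ι, hι, rfl⟩ := hx
            rw [Algebra.algebraMap_eq_smul_one, smul_tmul, ← Submodule.Quotient.mk_smul, smul_eq_mul, mul_one,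
              (Submodule.Quotient.mk_eq_zero IB).2 hι, tmul_zero]
          | zero => simp
          | add x y _ _ hx hy => rw [add_tmul, hx, hy, add_zero]
          | smul c x _ hx => rw [← smul_tmul', hx, smul_zero]
        exact key _ hb
      let χ : C ⊗[B] (B ⧸ ann) →ₐ[B] C ⧸ ann.map (algebraMap B C) :=
        Algebra.TensorProduct.lift (IsScalarTower.toAlgHom B C _)
          (Ideal.Quotient.liftₐ ann (Algebra.ofId B _) fun k hk => by
            show algebraMap B (C ⧸ ann.map (algebraMap B C)) k = 0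
            rw [IsScalarTower.algebraMap_apply B C, Ideal.Quotient.algebraMap_eq, Ideal.Quotient.eq_zero_iff_mem]
            exact Ideal.mem_map_of_mem _ hk) fun _ _ => .all _ _
      refine (Ideal.eq_top_iff_one _).2 (Ideal.Quotient.eq_zero_iff_mem.1 ?_)
      have := congrArg χ h1
      rw [map_zero, map_one (Ideal.Quotient.mk ann)] at this
      rw [map_one (Ideal.Quotient.mk _), ← map_one χ]
      exact this
    have hS : (ann.map θ.toRingHom).map (algebraMap R S) = ⊤ := by
      rw [Ideal.map_map, show (algebraMap R S).comp θ.toRingHom = π.toRingHom.comp (algebraMap B C) from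
        RingHom.ext fun x => (hcomp x).symm, ← Ideal.map_map, hC, Ideal.map_top]
    have htop := h.sup_eq_top hS
    rw [hIR, show (I.map (algebraMap A B)).map θ = (I.map (algebraMap A B)).map θ.toRingHom from rfl, ← Ideal.map_sup] at htop
    have hle : IB ≤ ann := fun x hx => by
      show LinearMap.toSpanSingleton B B b x ∈ IB
      rw [LinearMap.toSpanSingleton_apply, smul_eq_mul]
      exact IB.mul_mem_right _ hx
    rw [sup_eq_left.2 hle] at htop
    have h2 := congrArg (Ideal.comap θ.toRingHom) htop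
    rw [Ideal.comap_top, Ideal.comap_map_of_surjective θ.toRingHom hθ.surj, ← RingHom.ker_eq_comap_bot] at h2
    have h3 : ann ⊔ J.map (algebraMap A B) = ⊤ := hθ.ker_eq ▸ h2
    have h4 := Ideal.sup_pow_eq_top h3 (n := m)
    rw [← Ideal.map_pow, hm, Ideal.zero_eq_bot, Ideal.map_bot, sup_bot_eq] at h4
    exact hann h4

/-- The lifting property along a nilpotent ideal. -/
theorem hasApprox (n : ℕ) : ∀ {A : Type u} [CommRing A] [IsNoetherianRing A] {J : Ideal A}, J ^ (2 ^ n) = ⊥ →
    ∀ (I : Ideal A) {R S C : Type u} [CommRing R] [CommRing S] [CommRing C] [Algebra A R] [Algebra A S] [Algebra A C]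
      [Algebra R S] [IsScalarTower A R S] [Algebra.Etale R S] [Algebra.FiniteType A R]
      (_ : IsoMod S (I.map (algebraMap A R))) (πC : C →ₐ[A] S) (_ : IsThick J πC)
      (_ : ∀ j ∈ J, algebraMap A R j = 0)
      (_ : ∀ x ∈ I, Algebra.Etale A (Localization.Away (algebraMap A C x))) (_ : CanLift J I R),
      HasApprox J I R S C πC := by
  induction n with
  | zero =>
    intro A _ _ J hJ I R S C _ _ _ _ _ _ _ _ _ _ hiso πC hC hJR hCa hR
    rw [pow_zero, pow_one] at hJ
    exact hasApprox_sq (by rw [hJ, Ideal.bot_mul]) I hiso πC hC hJR hCa hR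
  | succ n ih =>
    intro A _ _ J hJ I R S C _ _ _ _ _ _ _ _ _ _ hiso πC hC hJR hCa hR
    let J2 := J * J
    let A' := A ⧸ J2
    let J' : Ideal A' := J.map (Ideal.Quotient.mk J2)
    have hJ' : J' * J' = ⊥ := by rw [← Ideal.map_mul]; exact Ideal.map_quotient_self J2
    have hJn : IsNilpotent J := ⟨_, hJ⟩
    have hJ2R : ∀ x ∈ J2, algebraMap A R x = 0 := fun x hx => hJR x (Ideal.mul_le_left hx)
    let C' := C ⧸ J2.map (algebraMap A C)
    letI algR : Algebra A' R := (Ideal.Quotient.lift J2 (algebraMap A R) hJ2R).toAlgebra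
    haveI : IsScalarTower A A' R := IsScalarTower.of_algebraMap_eq fun _ => rfl
    letI algS : Algebra A' S := ((algebraMap R S).comp (algebraMap A' R)).toAlgebra
    haveI : IsScalarTower A' R S := IsScalarTower.of_algebraMap_eq fun _ => rfl
    haveI : IsScalarTower A A' S := IsScalarTower.of_algebraMap_eq fun x => IsScalarTower.algebraMap_apply A R S x
    haveI : Algebra.FiniteType A' R := Algebra.FiniteType.of_restrictScalars_finiteType A A' R
    have hI' : (I.map (Ideal.Quotient.mk J2)).map (algebraMap A' R) = I.map (algebraMap A R) := Ideal.map_map _ _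
    have hC2 : IsThick J2 (Ideal.Quotient.mkₐ A (J2.map (algebraMap A C))) :=
      ⟨Ideal.Quotient.mk_surjective, Ideal.mk_ker⟩
    have hkill : ∀ x ∈ J2.map (algebraMap A C), πC x = 0 := fun x hx =>
      RingHom.mem_ker.1 (hC.ker_eq ▸ Ideal.map_mono Ideal.mul_le_left hx)
    let πA : C' →ₐ[A] S := Ideal.Quotient.liftₐ _ πC hkill
    let π' : C' →ₐ[A'] S := { πA.toRingHom with
      commutes' := fun x => by
        obtain ⟨x, rfl⟩ := Ideal.Quotient.mk_surjective x
        exact (πA.commutes x).trans (IsScalarTower.algebraMap_apply A A' S x) }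
    have hπ' : IsThick J' π' := by
      refine ⟨fun s => ?_, ?_⟩
      · obtain ⟨c, rfl⟩ := hC.surj s
        exact ⟨Ideal.Quotient.mk _ c, rfl⟩
      · rw [Ideal.map_map, show (algebraMap A' C').comp (Ideal.Quotient.mk J2) =
          (Ideal.Quotient.mk (J2.map (algebraMap A C))).comp (algebraMap A C) from rfl, ← Ideal.map_map, ← hC.ker_eq]
        ext x
        obtain ⟨c, rfl⟩ := Ideal.Quotient.mk_surjective x
        rw [Ideal.mem_quotient_iff_mem_sup, RingHom.mem_ker]
        have : J2.map (algebraMap A C) ≤ RingHom.ker πC := fun x hx => RingHom.mem_ker.2 (hkill x hx)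
        rw [sup_eq_left.2 this, RingHom.mem_ker]
        exact Iff.rfl
    have hCa' : ∀ x ∈ I.map (Ideal.Quotient.mk J2), Algebra.Etale A' (Localization.Away (algebraMap A' C' x)) := by
      intro x hx
      obtain ⟨x, hxI, rfl⟩ := (Ideal.mem_map_iff_of_surjective _ Ideal.Quotient.mk_surjective).1 hx
      haveI := hCa x hxI
      haveI : IsLocalization.Away (algebraMap A C' x) (Localization.Away (algebraMap A' C' (Ideal.Quotient.mk J2 x))) := by
        rw [IsScalarTower.algebraMap_apply A A' C' x]; infer_instance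
      obtain ⟨π, -, hπ⟩ := exists_thick_away hC2 x (Localization.Away (algebraMap A C x))
        (Localization.Away (algebraMap A' C' (Ideal.Quotient.mk J2 x)))
      exact etale_of_thick hπ
    have hR' : CanLift J' (I.map (Ideal.Quotient.mk J2)) R := by
      intro x hx
      obtain ⟨x, hxI, rfl⟩ := (Ideal.mem_map_iff_of_surjective _ Ideal.Quotient.mk_surjective).1 hx
      obtain ⟨L, i1, i2, i3, π, hπ⟩ := hR x hxI
      let T := Localization.Away (algebraMap A' R (Ideal.Quotient.mk J2 x))
      let L' := L ⧸ J2.map (algebraMap A L)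
      have hL2 : IsThick J2 (Ideal.Quotient.mkₐ A (J2.map (algebraMap A L))) :=
        ⟨Ideal.Quotient.mk_surjective, Ideal.mk_ker⟩
      haveI : Algebra.Etale A' L' := etale_of_thick hL2
      let πT : L →ₐ[A] T := π
      have hk : ∀ y ∈ J2.map (algebraMap A L), πT y = 0 := fun y hy =>
        RingHom.mem_ker.1 (hπ.ker_eq ▸ Ideal.map_mono Ideal.mul_le_left hy : y ∈ RingHom.ker π)
      let πL : L' →ₐ[A'] T := { (Ideal.Quotient.liftₐ _ πT hk).toRingHom with
        commutes' := fun y => by
          obtain ⟨y, rfl⟩ := Ideal.Quotient.mk_surjective y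
          exact (πT.commutes y).trans (IsScalarTower.algebraMap_apply A A' T y) }
      refine ⟨L', inferInstance, inferInstance, inferInstance, πL, fun s => ?_, ?_⟩
      · obtain ⟨c, rfl⟩ := hπ.surj s
        exact ⟨Ideal.Quotient.mk _ c, rfl⟩
      · rw [Ideal.map_map, show (algebraMap A' L').comp (Ideal.Quotient.mk J2) =
          (Ideal.Quotient.mk (J2.map (algebraMap A L))).comp (algebraMap A L) from rfl, ← Ideal.map_map, ← hπ.ker_eq]
        ext y
        obtain ⟨c, rfl⟩ := Ideal.Quotient.mk_surjective y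
        rw [Ideal.mem_quotient_iff_mem_sup, RingHom.mem_ker]
        have : J2.map (algebraMap A L) ≤ RingHom.ker π := fun y hy => RingHom.mem_ker.2 (hk y hy)
        rw [sup_eq_left.2 this, RingHom.mem_ker]
        exact Iff.rfl
    have hJ'R : ∀ j ∈ J', algebraMap A' R j = 0 := fun j hj => by
      obtain ⟨j, hjJ, rfl⟩ := (Ideal.mem_map_iff_of_surjective _ Ideal.Quotient.mk_surjective).1 hj
      exact hJR j hjJ
    obtain ⟨B₁, i1, i2, θ₁, hθ₁, ι₁, hι₁, hft₁, het₁, hB₁⟩ :=
      hasApprox_sq hJ' (I.map (Ideal.Quotient.mk J2)) (hI'.symm ▸ hiso) π' hπ' hJ'R hCa' hR'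
    letI : Algebra A B₁ := ((algebraMap A' B₁).comp (Ideal.Quotient.mk J2)).toAlgebra
    haveI : IsScalarTower A A' B₁ := IsScalarTower.of_algebraMap_eq fun _ => rfl
    letI : Algebra B₁ C' := ι₁.toRingHom.toAlgebra
    haveI : Algebra.Etale B₁ C' := (RingHom.etale_algebraMap).1 het₁
    haveI : IsScalarTower A' B₁ C' := IsScalarTower.of_algebraMap_eq fun x => (ι₁.commutes x).symm
    haveI : IsScalarTower A B₁ C' := IsScalarTower.of_algebraMap_eq fun x =>
      (IsScalarTower.algebraMap_apply A A' C' x).trans (ι₁.commutes _).symm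
    haveI : Algebra.FiniteType A' B₁ := hft₁
    haveI : Algebra.FiniteType A A' :=
      Algebra.FiniteType.of_surjective (Algebra.ofId A A') Ideal.Quotient.mk_surjective
    haveI : Algebra.FiniteType A B₁ := Algebra.FiniteType.trans ‹Algebra.FiniteType A A'› hft₁
    haveI : Module.Flat B₁ C' := Algebra.Smooth.flat B₁ C'
    have hθA : IsThick J (θ₁.restrictScalars A) := ⟨hθ₁.surj, by
      rw [IsScalarTower.algebraMap_eq A A' B₁, ← Ideal.map_map]; exact hθ₁.ker_eq⟩
    have hπA : IsThick J (π'.restrictScalars A) := ⟨hπ'.surj, by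
      rw [IsScalarTower.algebraMap_eq A A' C', ← Ideal.map_map]; exact hπ'.ker_eq⟩
    have hiso₁ : IsoMod C' (I.map (algebraMap A B₁)) := IsoMod.of_thick hJn hiso hθA hπA hι₁
    have hJ2B : ∀ x ∈ J2, algebraMap A B₁ x = 0 := fun x hx => by
      show algebraMap A' B₁ (Ideal.Quotient.mk J2 x) = 0
      rw [Ideal.Quotient.eq_zero_iff_mem.2 hx, map_zero]
    have hlift : CanLift J2 I B₁ := fun x hx => by
      haveI := hB₁ _ (Ideal.mem_map_of_mem _ hx)
      exact exists_thick_lift (J := J2) (Localization.Away (algebraMap A' B₁ (Ideal.Quotient.mk J2 x)))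
    obtain ⟨B, j1, j2, θ, hθ, ι, hι, hft, het, hB⟩ := ih (J := J2)
      (by rw [show J2 = J ^ 2 from (sq J).symm, ← pow_mul, ← pow_succ']; exact hJ)
      I hiso₁ (Ideal.Quotient.mkₐ A (J2.map (algebraMap A C))) hC2 hJ2B hCa hlift
    refine ⟨B, j1, j2, (θ₁.restrictScalars A).comp θ, ⟨hθ₁.surj.comp hθ.surj, le_antisymm (fun x hx => ?_)
      (Ideal.map_le_iff_le_comap.2 fun j hj => ?_)⟩, ι, fun b => ?_, hft, het, hB⟩
    · have h1 : θ x ∈ (J.map (algebraMap A B₁)) := hθA.ker_eq ▸ RingHom.mem_ker.2 (RingHom.mem_ker.1 hx)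
      rw [show J.map (algebraMap A B₁) = (J.map (algebraMap A B)).map θ.toRingHom from
        (congrArg (fun f => J.map f) θ.comp_algebraMap).symm.trans (Ideal.map_map _ θ.toRingHom).symm] at h1
      have h2 : x ∈ ((J.map (algebraMap A B)).map θ.toRingHom).comap θ.toRingHom := h1
      rw [Ideal.comap_map_of_surjective θ.toRingHom hθ.surj, ← RingHom.ker_eq_comap_bot] at h2
      refine (sup_le le_rfl ?_ : J.map (algebraMap A B) ⊔ _ ≤ J.map (algebraMap A B)) h2
      exact hθ.ker_eq.le.trans (Ideal.map_mono Ideal.mul_le_left)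
    · show θ₁ (θ (algebraMap A B j)) = 0
      rw [θ.commutes]
      exact ((θ₁.restrictScalars A).commutes j).trans (hJR j hj)
    · show πC (ι b) = algebraMap R S (θ₁ (θ b))
      rw [← hι₁ (θ b)]
      exact congrArg π' (hι b)

end Groth.Agent.EtLift7
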