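import Groth.Agent.EtLift7.Glue
import Groth.Agent.Hensel.LiftEtaleAlg
import Mathlib

/-! Lifting an approximation along a nilpotent thickening. -/

set_option autoImplicit false
set_option linter.style.haveILetI false
universe u

namespace Groth.Agent.EtLift7

open TensorProduct

variable {A : Type u} [CommRing A] {J : Ideal A}

theorem isUnit_of_thick {D T : Type u} [CommRing D] [CommRing T] [Algebra A D] [Algebra A T] {π : D →ₐ[A] T}
    (h : IsThick J π) (hJ : IsNilpotent J) {x : D} (hx : IsUnit (π x)) : IsUnit x := by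
  obtain ⟨v, hv⟩ := hx.exists_right_inv
  obtain ⟨d, rfl⟩ := h.surj v
  obtain ⟨m, hm⟩ := hJ
  have hn : IsNilpotent (1 - x * d) := by
    refine ⟨m, ?_⟩
    have hmem : 1 - x * d ∈ J.map (algebraMap A D) := by
      rw [← h.ker_eq, RingHom.mem_ker, map_sub, map_one, map_mul, hv, sub_self]
    have := Ideal.pow_mem_pow hmem m
    rwa [← Ideal.map_pow, hm, Ideal.zero_eq_bot, Ideal.map_bot, Ideal.mem_bot] at this
  exact isUnit_of_mul_isUnit_left (by simpa using hn.isUnit_one_sub)

theorem exists_thick_lift (T : Type u) [CommRing T] [Algebra A T] [Algebra (A ⧸ J) T] [IsScalarTower A (A ⧸ J) T]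
    [Algebra.Etale (A ⧸ J) T] :
    ∃ (L : Type u) (_ : CommRing L) (_ : Algebra A L) (_ : Algebra.Etale A L) (π : L →ₐ[A] T), IsThick J π := by
  obtain ⟨L, i1, i2, i3, ⟨e⟩⟩ :=
    Hensel.exists_etale_algebra_lift (A := A) (T := A ⧸ J) (C := T) Ideal.Quotient.mk_surjective
  let ir : L →ₐ[A] (A ⧸ J) ⊗[A] L := Algebra.TensorProduct.includeRight
  refine ⟨L, i1, i2, i3, (e.toAlgHom.restrictScalars A).comp ir, fun t => ?_, ?_⟩
  · obtain ⟨l, hl⟩ := Algebra.TensorProduct.includeRight_surjective L (R := A) (S := A ⧸ J)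
      Ideal.Quotient.mk_surjective (e.symm t)
    exact ⟨l, (congrArg e hl).trans (e.apply_symm_apply t)⟩
  · ext x
    show e (ir x) = 0 ↔ _
    rw [EmbeddingLike.map_eq_zero_iff]
    have h1 : (Algebra.TensorProduct.quotIdealMapEquivQuotTensor L J) (Ideal.Quotient.mk _ x) = ir x := by
      simp [ir]
    rw [← h1, EmbeddingLike.map_eq_zero_iff, Ideal.Quotient.eq_zero_iff_mem]

theorem etale_of_thick {D T : Type u} [CommRing D] [CommRing T] [Algebra A D] [Algebra A T] [Algebra (A ⧸ J) T]
    [IsScalarTower A (A ⧸ J) T] [Algebra.Etale A D] {π : D →ₐ[A] T} (h : IsThick J π) : Algebra.Etale (A ⧸ J) T := by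
  have hle : J.map (algebraMap A D) ≤ RingHom.ker π.toRingHom := h.ker_eq.ge
  let f : (D ⧸ J.map (algebraMap A D)) →ₐ[A ⧸ J] T :=
    { Ideal.Quotient.lift _ π.toRingHom (fun x hx => hle hx) with
      commutes' := fun x => by
        obtain ⟨x, rfl⟩ := Ideal.Quotient.mk_surjective x
        show π (algebraMap A D x) = _
        rw [π.commutes]
        exact IsScalarTower.algebraMap_apply A (A ⧸ J) T x }
  have hf : Function.Bijective f := by
    refine ⟨(injective_iff_map_eq_zero f).2 fun x hx => ?_, fun t => ?_⟩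
    · obtain ⟨x, rfl⟩ := Ideal.Quotient.mk_surjective x
      exact Ideal.Quotient.eq_zero_iff_mem.2 (h.ker_eq ▸ RingHom.mem_ker.2 hx)
    · obtain ⟨d, rfl⟩ := h.surj t
      exact ⟨Ideal.Quotient.mk _ d, rfl⟩
  haveI : Algebra.Etale (A ⧸ J) (D ⧸ J.map (algebraMap A D)) :=
    Algebra.Etale.of_equiv (Algebra.TensorProduct.quotIdealMapEquivQuotTensor D J).symm
  exact Algebra.Etale.of_equiv (AlgEquiv.ofBijective f hf)

theorem etale_away_of_mem_span [IsNoetherianRing A] {B : Type u} [CommRing B] [Algebra A B] [Algebra.FiniteType A B]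
    {r : ℕ} (a : Fin r → A) (h : ∀ i, Algebra.Etale A (Localization.Away (algebraMap A B (a i))))
    {x : A} (hx : x ∈ Ideal.span (Set.range a)) : Algebra.Etale A (Localization.Away (algebraMap A B x)) := by
  haveI : Algebra.FinitePresentation A B := Algebra.FinitePresentation.of_finiteType.1 ‹_›
  rw [← Algebra.basicOpen_subset_etaleLocus_iff_etale]
  intro p hp
  by_contra hpe
  have hle : Ideal.span (Set.range a) ≤ p.asIdeal.comap (algebraMap A B) := Ideal.span_le.2 (by
    rintro _ ⟨i, rfl⟩
    by_contra hi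
    exact hpe (Algebra.basicOpen_subset_etaleLocus_iff_etale.2 (h i) hi))
  exact hp (hle hx)

/-- Étale lifts over the open part exist. -/
def CanLift (J I : Ideal A) (R : Type u) [CommRing R] [Algebra A R] : Prop :=
  ∀ x ∈ I, ∃ (L : Type u) (_ : CommRing L) (_ : Algebra A L) (_ : Algebra.Etale A L)
    (π : L →ₐ[A] Localization.Away (algebraMap A R x)), IsThick J π

/-- The lifting property. -/
def HasApprox (J I : Ideal A) (R S C : Type u) [CommRing R] [CommRing S] [CommRing C] [Algebra A R] [Algebra A S]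
    [Algebra A C] [Algebra R S] (πC : C →ₐ[A] S) : Prop :=
  ∃ (B : Type u) (_ : CommRing B) (_ : Algebra A B) (θ : B →ₐ[A] R) (_ : IsThick J θ) (ι : B →ₐ[A] C)
    (_ : ∀ b, πC (ι b) = algebraMap R S (θ b)),
    Algebra.FiniteType A B ∧ ι.toRingHom.Etale ∧ ∀ x ∈ I, Algebra.Etale A (Localization.Away (algebraMap A B x))

section SquareZero

variable {R S C : Type u} [CommRing R] [CommRing S] [CommRing C] [Algebra A R] [Algebra A S] [Algebra A C]
  [Algebra R S] [IsScalarTower A R S] [Algebra.Etale R S] {r : ℕ} {a : Fin r → A}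
  {L : Fin r → Type u} [∀ i, CommRing (L i)] [∀ i, Algebra A (L i)] [∀ i, Algebra.Etale A (L i)]
  {πC : C →ₐ[A] S} {πL : ∀ i, L i →ₐ[A] R1 a R i} (D : Setup (C := C) J a πC πL)
  (hJ : J * J = ⊥) (hC : IsThick J πC) (hL : ∀ i, IsThick J (πL i))
  (hiso : IsoMod S ((Ideal.span (Set.range a)).map (algebraMap A R)))
  (hCa : ∀ i, Algebra.Etale A (R1 a C i)) (hJR : ∀ j ∈ J, algebraMap A R j = 0)

include hJ hC hL hiso hCa hJR in
theorem Setup.etale_toC : D.toC.toRingHom.Etale := by
  haveI := hCa
  haveI : Module.Flat R S := Algebra.Smooth.flat R S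
  have hθ := D.isThick_toR hJ hC hL hiso hCa hJR
  letI : Algebra D.glue R := D.toR.toRingHom.toAlgebra
  haveI : IsScalarTower A D.glue R := IsScalarTower.of_algebraMap_eq fun x => (D.toR.commutes x).symm
  letI : Algebra D.glue S := ((algebraMap R S).comp D.toR.toRingHom).toAlgebra
  haveI : IsScalarTower D.glue R S := IsScalarTower.of_algebraMap_eq fun _ => rfl
  haveI : IsScalarTower A D.glue S := IsScalarTower.of_algebraMap_eq fun x => by
    show algebraMap A S x = algebraMap R S (D.toR (algebraMap A D.glue x))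
    rw [D.toR.commutes, ← IsScalarTower.algebraMap_apply]
  letI : Algebra D.glue C := D.toC.toRingHom.toAlgebra
  haveI : IsScalarTower A D.glue C := IsScalarTower.of_algebraMap_eq fun x => (D.toC.commutes x).symm
  obtain ⟨C', i1, i2, i3, ⟨e⟩⟩ := Hensel.exists_etale_algebra_lift (A := D.glue) (T := R) (C := S) hθ.surj
  letI : Algebra A C' := ((algebraMap D.glue C').comp (algebraMap A D.glue)).toAlgebra
  haveI : IsScalarTower A D.glue C' := IsScalarTower.of_algebraMap_eq fun _ => rfl
  let π' : C' →ₐ[D.glue] S := (e.toAlgHom.restrictScalars D.glue).comp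
    (Algebra.TensorProduct.includeRight : C' →ₐ[D.glue] R ⊗[D.glue] C')
  have hπ'surj : Function.Surjective π' := fun t => by
    obtain ⟨l, hl⟩ := Algebra.TensorProduct.includeRight_surjective C' (R := D.glue) (S := R) hθ.surj (e.symm t)
    exact ⟨l, (congrArg e hl).trans (e.apply_symm_apply t)⟩
  have hker : RingHom.ker π' = J.map (algebraMap A C') := by
    refine le_antisymm (fun x hx => ?_) (Ideal.map_le_iff_le_comap.2 fun j hj => ?_)
    · have hx' : (1 : R) ⊗ₜ[D.glue] x = 0 := e.injective ((hx : e _ = 0).trans (map_zero e).symm)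
      let K := J.map (algebraMap A C')
      have hK : ∀ b : D.glue, D.toR b = 0 → algebraMap D.glue (C' ⧸ K) b = 0 := fun b hb => by
        have hb' : b ∈ J.map (algebraMap A D.glue) := hθ.ker_eq ▸ RingHom.mem_ker.2 hb
        have h2 := Ideal.mem_map_of_mem (algebraMap D.glue C') hb'
        rw [Ideal.map_map, ← IsScalarTower.algebraMap_eq] at h2
        exact Ideal.Quotient.eq_zero_iff_mem.2 h2
      let χR : R →+* C' ⧸ K := RingHom.liftOfSurjective D.toR.toRingHom hθ.surj
        ⟨algebraMap D.glue (C' ⧸ K), fun b hb => RingHom.mem_ker.2 (hK b hb)⟩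
      have hχR : ∀ b, χR (D.toR b) = algebraMap D.glue (C' ⧸ K) b := fun b =>
        RingHom.liftOfRightInverse_comp_apply _ _ _ _ b
      let χ := Algebra.TensorProduct.lift (R := D.glue) (S := D.glue) { χR with commutes' := hχR }
        (Ideal.Quotient.mkₐ D.glue K) fun _ _ => .all _ _
      have := congrArg χ hx'
      rw [map_zero, Algebra.TensorProduct.lift_tmul, map_one, one_mul] at this
      exact Ideal.Quotient.eq_zero_iff_mem.1 this
    · show π' (algebraMap D.glue C' (algebraMap A D.glue j)) = 0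
      rw [π'.commutes, ← IsScalarTower.algebraMap_apply, IsScalarTower.algebraMap_apply A R S, hJR j hj, map_zero]
  let J' : Ideal D.glue := J.map (algebraMap A D.glue)
  have hJ' : J' * J' = ⊥ := by rw [← Ideal.map_mul, hJ, Ideal.map_bot]
  let πC' : C →ₐ[D.glue] S := { πC.toRingHom with commutes' := D.πC_toC }
  have hC' : IsThick J' πC' := ⟨hC.surj, by
    rw [Ideal.map_map, ← IsScalarTower.algebraMap_eq]; exact hC.ker_eq⟩
  obtain ⟨g, hg⟩ := hC'.exists_lift hJ' π'
  have hgsurj : Function.Surjective g := by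
    have h := hC'.lift_surjective hJ' g.range fun t => by
      obtain ⟨x, rfl⟩ := hπ'surj t
      exact ⟨g x, ⟨x, rfl⟩, DFunLike.congr_fun hg x⟩
    exact fun c => (h ▸ Algebra.mem_top : c ∈ g.range)
  have hginj : Function.Injective g :=
    D.injective_of_lift hJ hC hL hiso hCa hJR C' (π'.restrictScalars A) ⟨hπ'surj, hker⟩
      (IsScalarTower.toAlgHom A D.glue C') (fun b => π'.commutes b) (g.restrictScalars A)
      (AlgHom.ext fun b => g.commutes b) (AlgHom.ext fun x => DFunLike.congr_fun hg x)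
  haveI : Algebra.Etale D.glue C := Algebra.Etale.of_equiv (AlgEquiv.ofBijective g ⟨hginj, hgsurj⟩)
  exact (RingHom.etale_algebraMap).2 ‹_›

include hJ hC hL hiso hCa hJR in
theorem Setup.finiteType_glue [Algebra.FiniteType A R] : Algebra.FiniteType A D.glue := by
  haveI : Module.Flat R S := Algebra.Smooth.flat R S
  have hθ := D.isThick_toR hJ hC hL hiso hCa hJR
  obtain ⟨s, hs⟩ := (Algebra.FiniteType.out : (⊤ : Subalgebra A R).FG)
  choose f hf using hθ.surj
  refine ⟨⟨(s.finite_toSet.image f).toFinset, ?_⟩⟩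
  rw [Set.Finite.coe_toFinset]
  refine hθ.lift_surjective hJ _ fun t => ?_
  have ht : t ∈ (Algebra.adjoin A (f '' (s : Set R))).map D.toR := by
    rw [AlgHom.map_adjoin, Set.image_image]
    simp only [hf, Set.image_id', hs]
    exact Algebra.mem_top
  obtain ⟨d, hd, hdt⟩ := ht
  exact ⟨d, hd, hdt⟩

include hJ hC hL hiso hCa in
theorem Setup.etale_away (i : Fin r) : Algebra.Etale A (Localization.Away (algebraMap A D.glue (a i))) := by
  haveI : Module.Flat R S := Algebra.Smooth.flat R S
  letI : Algebra D.glue (L i) := (D.toL i).toRingHom.toAlgebra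
  haveI : IsScalarTower A D.glue (L i) := IsScalarTower.of_algebraMap_eq fun x => ((D.toL i).commutes x).symm
  have hu : IsUnit (algebraMap A (L i) (a i)) :=
    isUnit_of_thick (hL i) ⟨2, by rw [sq, hJ]; rfl⟩ (by rw [AlgHom.commutes]; exact isUnit_R1 a i)
  haveI : IsLocalization.Away (algebraMap A D.glue (a i)) (L i) := by
    refine IsLocalization.Away.mk _ ?_ (fun z => ?_) (fun x y hxy => ?_)
    · rw [← IsScalarTower.algebraMap_apply]; exact hu
    · obtain ⟨n, b, hb⟩ := D.exists_toL hJ hC hL hiso hCa i z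
      refine ⟨n, b, ?_⟩
      rw [← IsScalarTower.algebraMap_apply, mul_comm]
      exact hb.symm
    · obtain ⟨n, hn⟩ := D.toL_eq_zero i (x - y) (by rw [map_sub]; exact sub_eq_zero.2 hxy)
      exact ⟨n, sub_eq_zero.1 (by rw [← mul_sub]; exact hn)⟩
  exact Algebra.Etale.of_equiv
    ((IsLocalization.algEquiv (Submonoid.powers (algebraMap A D.glue (a i))) (L i)
      (Localization.Away (algebraMap A D.glue (a i)))).restrictScalars A)

end SquareZero

/-- The square zero case. -/
theorem hasApprox_sq [IsNoetherianRing A] (hJ : J * J = ⊥) (I : Ideal A)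
    {R S C : Type u} [CommRing R] [CommRing S] [CommRing C] [Algebra A R] [Algebra A S] [Algebra A C]
    [Algebra R S] [IsScalarTower A R S] [Algebra.Etale R S] [Algebra.FiniteType A R]
    (hiso : IsoMod S (I.map (algebraMap A R))) (πC : C →ₐ[A] S) (hC : IsThick J πC)
    (hJR : ∀ j ∈ J, algebraMap A R j = 0)
    (hCa : ∀ x ∈ I, Algebra.Etale A (Localization.Away (algebraMap A C x))) (hR : CanLift J I R) :
    HasApprox J I R S C πC := by
  obtain ⟨r, a, rfl⟩ := Submodule.fg_iff_exists_fin_generating_family.1 (IsNoetherian.noetherian I)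
  have ha : ∀ i, a i ∈ Submodule.span A (Set.range a) := fun i => Submodule.subset_span ⟨i, rfl⟩
  choose L i1 i2 i3 πL hL using fun i => hR (a i) (ha i)
  haveI : Module.Flat R S := Algebra.Smooth.flat R S
  have hCa' : ∀ i, Algebra.Etale A (R1 a C i) := fun i => hCa _ (ha i)
  obtain ⟨D⟩ := nonempty_setup (C := C) hJ hC hL
  haveI := D.finiteType_glue hJ hC hL hiso hCa' hJR
  exact ⟨D.glue, inferInstance, inferInstance, D.toR, D.isThick_toR hJ hC hL hiso hCa' hJR, D.toC, D.πC_toC,
    inferInstance, D.etale_toC hJ hC hL hiso hCa' hJR,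
    fun x hx => etale_away_of_mem_span a (D.etale_away hJ hC hL hiso hCa') hx⟩

end Groth.Agent.EtLift7
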