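import Groth.Agent.EtLift7.Complex

/-! The data of compatible lifts on the pieces of the cover. -/

set_option autoImplicit false
set_option linter.style.haveILetI false
universe u
set_option maxSynthPendingDepth 5
set_option synthInstance.maxHeartbeats 100000

namespace Groth.Agent.EtLift7

open TensorProduct

variable {A : Type u} [CommRing A] {J : Ideal A}
  {R S C : Type u} [CommRing R] [CommRing S] [CommRing C] [Algebra A R] [Algebra A S] [Algebra A C]
  [Algebra R S] [IsScalarTower A R S] {r : ℕ} {a : Fin r → A}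
  {L : Fin r → Type u} [∀ i, CommRing (L i)] [∀ i, Algebra A (L i)]

/-- `L i [1/a j]`. -/
abbrev L2 (a : Fin r → A) (L : Fin r → Type u) [∀ i, CommRing (L i)] [∀ i, Algebra A (L i)] (i j : Fin r) : Type u :=
  Localization.Away (algebraMap A (L i) (a j))

instance etale_L2 [∀ i, Algebra.Etale A (L i)] (i j : Fin r) : Algebra.Etale A (L2 a L i j) := by
  haveI : Algebra.Etale (L i) (L2 a L i j) := Algebra.Etale.of_isLocalizationAway (algebraMap A (L i) (a j))
  exact Algebra.Etale.comp A (L i) (L2 a L i j)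

/-- `L i → L i [1/a j]`. -/
noncomputable abbrev lres1 (a : Fin r → A) (L : Fin r → Type u) [∀ i, CommRing (L i)] [∀ i, Algebra A (L i)]
    (i j : Fin r) : L i →ₐ[A] L2 a L i j := IsScalarTower.toAlgHom A _ _

/-- `C → S ⊗ R`. -/
noncomputable def pi0 (R : Type u) [CommRing R] [Algebra A R] [Algebra R S] [IsScalarTower A R S] (πC : C →ₐ[A] S) :
    C →ₐ[A] S ⊗[R] R :=
  ((Algebra.TensorProduct.includeLeft : S →ₐ[R] S ⊗[R] R).restrictScalars A).comp πC

theorem bijective_tmul_one : Function.Bijective fun s : S => s ⊗ₜ[R] (1 : R) :=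
  (TensorProduct.rid R S).symm.bijective

theorem isThick_pi0 {πC : C →ₐ[A] S} (hC : IsThick J πC) : IsThick J (pi0 R πC) := by
  refine ⟨fun x => ?_, ?_⟩
  · obtain ⟨s, rfl⟩ := (bijective_tmul_one (R := R) (S := S)).2 x
    obtain ⟨c, rfl⟩ := hC.surj s
    exact ⟨c, rfl⟩
  · rw [← hC.ker_eq]
    ext c
    show πC c ⊗ₜ[R] (1 : R) = 0 ↔ πC c = 0
    exact ⟨fun h => (bijective_tmul_one (R := R) (S := S)).1 (h.trans (zero_tmul S (1 : R)).symm),
      fun h => by rw [h, zero_tmul]⟩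

theorem pi0_apply (πC : C →ₐ[A] S) (c : C) : pi0 R πC c = πC c ⊗ₜ 1 := rfl

/-- The base changed kernel map near the closed part. -/
noncomputable def beta0 (R : Type u) [CommRing R] [Algebra A R] [Algebra R S] [IsScalarTower A R S] (hJ : J * J = ⊥)
    {πC : C →ₐ[A] S} (hC : IsThick J πC) : S ⊗[R] (R ⊗[A] J) →+ C :=
  beta hJ (isThick_pi0 (R := R) hC)

theorem exists_beta0 (hJ : J * J = ⊥) {πC : C →ₐ[A] S} (hC : IsThick J πC) {x : C} (hx : πC x = 0) :
    ∃ t, beta0 R hJ hC t = x :=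
  exists_beta hJ (isThick_pi0 (R := R) hC) (by rw [pi0_apply, hx, zero_tmul])

theorem beta0_mem (hJ : J * J = ⊥) {πC : C →ₐ[A] S} (hC : IsThick J πC) (t : S ⊗[R] (R ⊗[A] J)) :
    πC (beta0 R hJ hC t) = 0 := by
  have h : pi0 R πC (beta0 R hJ hC t) = 0 := kap_mem hJ (isThick_pi0 hC) _
  rw [pi0_apply] at h
  exact (bijective_tmul_one (R := R) (S := S)).1 (h.trans (zero_tmul S (1 : R)).symm)

theorem beta0_tmul (hJ : J * J = ⊥) {πC : C →ₐ[A] S} (hC : IsThick J πC) (c : C) (s : R) (j : J)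
    (hc : πC c = algebraMap R S s) : beta0 R hJ hC (1 ⊗ₜ (s ⊗ₜ j)) = c * algebraMap A C j := by
  have h : pi0 R πC c = (1 : S) ⊗ₜ[R] s := by
    rw [pi0_apply, hc, Algebra.algebraMap_eq_smul_one, smul_tmul, smul_eq_mul, mul_one]
  refine (beta_tmul hJ (isThick_pi0 (R := R) hC) 1 s j).trans ?_
  rw [← h]
  exact kap_tmul hJ (isThick_pi0 (R := R) hC) c j

theorem algebraMap_tmul_one (s : R) : algebraMap R S s ⊗ₜ[R] (1 : R) = (1 : S) ⊗ₜ s := by
  rw [Algebra.algebraMap_eq_smul_one, smul_tmul, smul_eq_mul, mul_one]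

/-- Compatible lifts. -/
structure Setup (J : Ideal A) (a : Fin r → A) (πC : C →ₐ[A] S) (πL : ∀ i, L i →ₐ[A] R1 a R i) where
  π2 : ∀ i j, L2 a L i j →ₐ[A] R2 a R i j
  hπ2 : ∀ i j l, π2 i j (lres1 a L i j l) = res1 a i j (πL i l)
  th2 : ∀ i j, IsThick J (π2 i j)
  e2 : ∀ i j, L j →ₐ[A] L2 a L i j
  he2 : ∀ i j l, π2 i j (e2 i j l) = res2 a i j (πL j l)
  πC1 : ∀ i, R1 a C i →ₐ[A] S ⊗[R] R1 a R i
  hπC1 : ∀ i c, πC1 i (algebraMap C _ c) = πC c ⊗ₜ 1
  thC1 : ∀ i, IsThick J (πC1 i)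
  πC2 : ∀ i j, R2 a C i j →ₐ[A] S ⊗[R] R2 a R i j
  hπC2 : ∀ i j c, πC2 i j (algebraMap C _ c) = πC c ⊗ₜ 1
  thC2 : ∀ i j, IsThick J (πC2 i j)
  φ : ∀ i, L i →ₐ[A] R1 a C i
  hφ : ∀ i l, πC1 i (φ i l) = 1 ⊗ₜ πL i l
  φ2 : ∀ i j, L2 a L i j →ₐ[A] R2 a C i j
  hφ2 : ∀ i j l, πC2 i j (φ2 i j l) = 1 ⊗ₜ π2 i j l

variable (hJ : J * J = ⊥) [∀ i, Algebra.Etale A (L i)] {πC : C →ₐ[A] S} {πL : ∀ i, L i →ₐ[A] R1 a R i}

theorem etale_C2 (hCa : ∀ i, Algebra.Etale A (R1 a C i)) (i j : Fin r) : Algebra.Etale A (R2 a C i j) := by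
  haveI := hCa i
  haveI : Algebra.Etale (R1 a C i) (R2 a C i j) := Algebra.Etale.of_isLocalizationAway (algebraMap A (R1 a C i) (a j))
  exact Algebra.Etale.comp A (R1 a C i) (R2 a C i j)

include hJ in
theorem nonempty_setup (hC : IsThick J πC) (hL : ∀ i, IsThick J (πL i)) : Nonempty (Setup (C := C) J a πC πL) := by
  choose π2 hπ2 th2 using fun i j => exists_thick_away (hL i) (a j) (L2 a L i j) (R2 a R i j)
  choose e2 he2 using fun i j => (th2 i j).exists_lift hJ (((res2 a i j).restrictScalars A).comp (πL j))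
  have hloc1 : ∀ i, IsLocalization.Away (algebraMap A S (a i)) (S ⊗[R] R1 a R i) := fun i => by
    rw [IsScalarTower.algebraMap_apply A R S]; infer_instance
  have hloc2 : ∀ i j, IsLocalization.Away (algebraMap A S (a i * a j)) (S ⊗[R] R2 a R i j) := fun i j => by
    haveI := away_mul (R := R) a i j
    rw [IsScalarTower.algebraMap_apply A R S]; infer_instance
  choose πC1 hπC1 thC1 using fun i =>
    haveI := hloc1 i
    exists_thick_away hC (a i) (R1 a C i) (S ⊗[R] R1 a R i)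
  choose πC2 hπC2 thC2 using fun i j =>
    haveI := hloc2 i j
    haveI := away_mul (R := C) a i j
    exists_thick_away hC (a i * a j) (R2 a C i j) (S ⊗[R] R2 a R i j)
  choose φ hφ using fun i => (thC1 i).exists_lift hJ
    (((Algebra.TensorProduct.includeRight : R1 a R i →ₐ[R] S ⊗[R] R1 a R i).restrictScalars A).comp (πL i))
  choose φ2 hφ2 using fun i j => (thC2 i j).exists_lift hJ
    (((Algebra.TensorProduct.includeRight : R2 a R i j →ₐ[R] S ⊗[R] R2 a R i j).restrictScalars A).comp (π2 i j))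
  exact ⟨{ π2 := π2, hπ2 := hπ2, th2 := th2, e2 := e2, he2 := fun i j l => DFunLike.congr_fun (he2 i j) l
           πC1 := πC1, hπC1 := hπC1, thC1 := thC1, πC2 := πC2, hπC2 := hπC2, thC2 := thC2
           φ := φ, hφ := fun i l => DFunLike.congr_fun (hφ i) l
           φ2 := φ2, hφ2 := fun i j l => DFunLike.congr_fun (hφ2 i j) l }⟩

variable (D : Setup (C := C) J a πC πL)

theorem Setup.compat (i i' j : Fin r) (g : R1 a R i →ₐ[R] R2 a R i' j) (f : R1 a C i →ₐ[C] R2 a C i' j)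
    (x : R1 a C i) : D.πC2 i' j (f x) = Algebra.TensorProduct.map (AlgHom.id R S) g (D.πC1 i x) := by
  refine congr($(IsLocalization.ringHom_ext (Submonoid.powers (algebraMap A C (a i)))
    (j := (D.πC2 i' j).toRingHom.comp f.toRingHom)
    (k := (Algebra.TensorProduct.map (AlgHom.id R S) g).toRingHom.comp (D.πC1 i).toRingHom) (RingHom.ext fun c => ?_)) x)
  show D.πC2 i' j (f (algebraMap C _ c)) = Algebra.TensorProduct.map (AlgHom.id R S) g (D.πC1 i (algebraMap C _ c))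
  rw [f.commutes, D.hπC2, D.hπC1, Algebra.TensorProduct.map_tmul, map_one, AlgHom.id_apply]

theorem Setup.compat0 (i : Fin r) (c : C) :
    D.πC1 i (IsScalarTower.toAlgHom A C (R1 a C i) c) =
      Algebra.TensorProduct.map (AlgHom.id R S) (res0 a i) (pi0 R πC c) := by
  show D.πC1 i (algebraMap C _ c) = Algebra.TensorProduct.map (AlgHom.id R S) (res0 a i) (πC c ⊗ₜ[R] 1)
  rw [D.hπC1, Algebra.TensorProduct.map_tmul, map_one, AlgHom.id_apply]

include hJ in
theorem Setup.φ_res1 (i j : Fin r) (l : L i) : D.φ2 i j (lres1 a L i j l) = res1 a i j (D.φ i l) :=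
  DFunLike.congr_fun ((D.thC2 i j).ext hJ (f := (D.φ2 i j).comp (lres1 a L i j))
    (g := ((res1 a (R := C) i j).restrictScalars A).comp (D.φ i)) (AlgHom.ext fun l => by
      show D.πC2 i j (D.φ2 i j (lres1 a L i j l)) = D.πC2 i j (res1 a i j (D.φ i l))
      rw [D.hφ2, D.hπ2, D.compat i i j (res1 a i j), D.hφ, Algebra.TensorProduct.map_tmul, map_one])) l

include hJ in
theorem Setup.φ_res2 (i j : Fin r) (l : L j) : D.φ2 i j (D.e2 i j l) = res2 a i j (D.φ j l) :=
  DFunLike.congr_fun ((D.thC2 i j).ext hJ (f := (D.φ2 i j).comp (D.e2 i j))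
    (g := ((res2 a (R := C) i j).restrictScalars A).comp (D.φ j)) (AlgHom.ext fun l => by
      show D.πC2 i j (D.φ2 i j (D.e2 i j l)) = D.πC2 i j (res2 a i j (D.φ j l))
      rw [D.hφ2, D.he2, D.compat j i j (res2 a i j), D.hφ, Algebra.TensorProduct.map_tmul, map_one])) l

include hJ in
theorem Setup.kap_res1 (hL : ∀ i, IsThick J (πL i)) (i j : Fin r) (z : R1 a R i ⊗[A] J) :
    kap hJ (D.th2 i j) (nmap J (res1 a i j) z) = lres1 a L i j (kap hJ (hL i) z) :=
  kap_nmap hJ (hL i) (D.th2 i j) (res1 a i j) (lres1 a L i j) (D.hπ2 i j) z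

include hJ in
theorem Setup.kap_res2 (hL : ∀ i, IsThick J (πL i)) (i j : Fin r) (z : R1 a R j ⊗[A] J) :
    kap hJ (D.th2 i j) (nmap J (res2 a i j) z) = D.e2 i j (kap hJ (hL j) z) :=
  kap_nmap hJ (hL j) (D.th2 i j) (res2 a i j) (D.e2 i j) (D.he2 i j) z

/-- Maps to a triple overlap. -/
theorem Setup.exists_triple (i i' j k : Fin r) (q : L i' →ₐ[A] L2 a L i j) (qR : R1 a R i' →ₐ[R] R2 a R i j)
    (hq : ∀ x, D.π2 i j (q x) = qR (πL i' x)) (π3 : Localization.Away (algebraMap A (L2 a L i j) (a k)) →ₐ[A] R3 a R i j k)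
    (hπ3 : ∀ x, π3 (algebraMap _ _ x) = algebraMap (R2 a R i j) _ (D.π2 i j x)) :
    ∃ h : L2 a L i' k →ₐ[A] Localization.Away (algebraMap A (L2 a L i j) (a k)),
      (∀ x, h (lres1 a L i' k x) = algebraMap _ _ (q x)) ∧
      ∃ g : R1 a R k →ₐ[R] R3 a R i j k, ∀ x, π3 (h (D.e2 i' k x)) = g (πL k x) := by
  let L3 := Localization.Away (algebraMap A (L2 a L i j) (a k))
  let t3 : L2 a L i j →ₐ[A] L3 := IsScalarTower.toAlgHom A _ _
  let t3R : R2 a R i j →ₐ[R] R3 a R i j k := IsScalarTower.toAlgHom R _ _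
  have hu : IsUnit (algebraMap A L3 (a k)) := by
    rw [IsScalarTower.algebraMap_apply A (L2 a L i j) L3]
    exact IsLocalization.Away.algebraMap_isUnit _
  let h : L2 a L i' k →ₐ[A] L3 := IsLocalization.liftAlgHom (M := Submonoid.powers (algebraMap A (L i') (a k)))
    (f := t3.comp q) fun y => by
      obtain ⟨_, m, rfl⟩ := y
      show IsUnit (t3.comp q (algebraMap A (L i') (a k) ^ m))
      rw [map_pow, AlgHom.commutes]
      exact hu.pow m
  have hh : ∀ x, h (lres1 a L i' k x) = t3 (q x) := fun x => IsLocalization.lift_eq _ x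
  let hR : R2 a R i' k →ₐ[R] R3 a R i j k :=
    IsLocalization.liftAlgHom (M := Submonoid.powers (algebraMap A (R1 a R i') (a k))) (f := t3R.comp qR) fun y => by
      obtain ⟨_, m, rfl⟩ := y
      show IsUnit (t3R.comp qR (algebraMap A (R1 a R i') (a k) ^ m))
      rw [map_pow]
      refine IsUnit.pow m ?_
      rw [show t3R.comp qR (algebraMap A (R1 a R i') (a k)) = algebraMap A (R3 a R i j k) (a k) from
        ((t3R.comp qR).restrictScalars A).commutes (a k)]
      exact isUnit_R3_right a i j k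
  have hhR0 : ∀ z, hR (res1 a i' k z) = t3R (qR z) := fun z => IsLocalization.lift_eq _ z
  have hhR : ∀ x, π3 (h x) = hR (D.π2 i' k x) := fun x =>
    congr($(IsLocalization.ringHom_ext (Submonoid.powers (algebraMap A (L i') (a k)))
      (j := π3.toRingHom.comp h.toRingHom) (k := hR.toRingHom.comp (D.π2 i' k).toRingHom)
      (RingHom.ext fun y => by
        show π3 (h (lres1 a L i' k y)) = hR (D.π2 i' k (lres1 a L i' k y))
        rw [hh, D.hπ2]
        refine (hπ3 _).trans ?_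
        rw [hq]
        exact (hhR0 _).symm)) x)
  exact ⟨h, hh, hR.comp (res2 a i' k), fun x => by rw [hhR, D.he2]; rfl⟩

include hJ in
theorem Setup.torsion_cocycle (hL : ∀ i, IsThick J (πL i)) (l : ∀ i, L i) (e : Cx2 J a R)
    (he : ∀ p : Fin r × Fin r, kap hJ (D.th2 p.1 p.2) (e p) = lres1 a L p.1 p.2 (l p.1) - D.e2 p.1 p.2 (l p.2)) :
    ∃ n : ℕ, ∀ x ∈ (Ideal.span (Set.range a)).map (algebraMap A R) ^ n, x • e ∈ LinearMap.range (delta J a (R := R)) := by
  refine exists_pow_smul_mem (fun i => algebraMap A R (a i)) (map_span_eq a) _ e fun k => ?_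
  let α := algebraMap A R (a k)
  choose n₀ z₀ hz₀ using fun i => (loc1 J a i k).1 (e (i, k))
  let n := Finset.univ.sup n₀
  let z : Cx1 J a R := fun i => α ^ (n - n₀ i) • z₀ i
  have hz : ∀ i, nmap J (res1 a i k) (z i) = α ^ n • e (i, k) := fun i => by
    rw [map_smul, hz₀, smul_smul, ← pow_add, Nat.sub_add_cancel (Finset.le_sup (f := n₀) (Finset.mem_univ i))]
  let d : ∀ i, L i := fun i => algebraMap A (L i) (a k) ^ n * l i - kap hJ (hL i) (z i)
  have hd : ∀ i, lres1 a L i k (d i) = algebraMap A (L2 a L i k) (a k) ^ n * D.e2 i k (l k) := fun i => by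
    have := he (i, k)
    rw [map_sub, map_mul, map_pow, AlgHom.commutes, ← D.kap_res1 hJ hL, hz, kap_pow_smul hJ (D.th2 i k), this]
    ring
  have hf : ∀ p : Fin r × Fin r, ∃ m : ℕ, α ^ m • (α ^ n • e p - delta J a z p) = 0 := by
    rintro ⟨i, j⟩
    have hkf : kap hJ (D.th2 i j) (α ^ n • e (i, j) - delta J a z (i, j)) =
        lres1 a L i j (d i) - D.e2 i j (d j) := by
      rw [delta_apply, map_sub, map_sub, kap_pow_smul hJ (D.th2 i j), he (i, j), D.kap_res1 hJ hL, D.kap_res2 hJ hL]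
      simp only [d, map_sub, map_mul, map_pow, AlgHom.commutes]
      ring
    obtain ⟨π3, hπ3, th3⟩ := exists_thick_away (D.th2 i j) (a k)
      (Localization.Away (algebraMap A (L2 a L i j) (a k))) (R3 a R i j k)
    obtain ⟨h1, hh1, g1, hg1⟩ := D.exists_triple i i j k (lres1 a L i j) (res1 a i j) (D.hπ2 i j) π3 hπ3
    obtain ⟨h2, hh2, g2, hg2⟩ := D.exists_triple i j j k (D.e2 i j) (res2 a i j) (D.he2 i j) π3 hπ3
    have heq : h1.comp (D.e2 i k) = h2.comp (D.e2 j k) := th3.ext hJ (AlgHom.ext fun x => by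
      show π3 (h1 (D.e2 i k x)) = π3 (h2 (D.e2 j k x))
      rw [hg1, hg2, hom_ext_away a k g1 g2])
    have hzero : algebraMap _ (Localization.Away (algebraMap A (L2 a L i j) (a k)))
        (kap hJ (D.th2 i j) (α ^ n • e (i, j) - delta J a z (i, j))) = 0 := by
      rw [hkf, map_sub, ← hh1, ← hh2, hd, hd, map_mul, map_mul, map_pow, map_pow, AlgHom.commutes, AlgHom.commutes,
        show h1 (D.e2 i k (l k)) = h2 (D.e2 j k (l k)) from DFunLike.congr_fun heq (l k), sub_self]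
    obtain ⟨⟨_, m, rfl⟩, hm⟩ :=
      (IsLocalization.map_eq_zero_iff (Submonoid.powers (algebraMap A (L2 a L i j) (a k))) _ _).1 hzero
    refine ⟨m, kap_injective hJ (D.th2 i j) ?_⟩
    rw [kap_pow_smul hJ (D.th2 i j), map_zero]
    exact hm
  choose m hm using hf
  refine ⟨Finset.univ.sup m + n, α ^ Finset.univ.sup m • z, funext fun p => ?_⟩
  obtain ⟨c, hc⟩ := Nat.exists_eq_add_of_le (Finset.le_sup (f := m) (Finset.mem_univ p))
  rw [map_smul, Pi.smul_apply, Pi.smul_apply, pow_add, mul_smul, eq_comm, ← sub_eq_zero, ← smul_sub, hc, add_comm,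
    pow_add, mul_smul, hm, smul_zero]

include hJ in
theorem Setup.beta_rho (hC : IsThick J πC) (i : Fin r) (u : S ⊗[R] (R ⊗[A] J)) :
    beta hJ (D.thC1 i) ((LinearMap.proj (φ := fun i => R1 a R i ⊗[A] J) i).lTensor S ((rho J a).lTensor S u)) =
      algebraMap C (R1 a C i) (beta0 R hJ hC u) := by
  rw [← LinearMap.lTensor_comp_apply, show (LinearMap.proj (φ := fun i => R1 a R i ⊗[A] J) i).comp (rho J a) = nmap J (res0 a i) from rfl]
  exact beta_map hJ (isThick_pi0 hC) (D.thC1 i) (res0 a i) (IsScalarTower.toAlgHom A C _) (D.compat0 i) u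

include hJ in
theorem Setup.beta_delta (i j : Fin r) (t : S ⊗[R] Cx1 J a R) :
    beta hJ (D.thC2 i j) ((LinearMap.proj (φ := fun p : Fin r × Fin r => R2 a R p.1 p.2 ⊗[A] J) (i, j)).lTensor S
        ((delta J a).lTensor S t)) =
      res1 a i j (beta hJ (D.thC1 i) ((LinearMap.proj (φ := fun i => R1 a R i ⊗[A] J) i).lTensor S t)) -
      res2 a i j (beta hJ (D.thC1 j) ((LinearMap.proj (φ := fun i => R1 a R i ⊗[A] J) j).lTensor S t)) := by
  rw [← LinearMap.lTensor_comp_apply,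
    show (LinearMap.proj (φ := fun p : Fin r × Fin r => R2 a R p.1 p.2 ⊗[A] J) (i, j)).comp (delta J a) =
      (nmap J (res1 a i j)).comp (LinearMap.proj (φ := fun i => R1 a R i ⊗[A] J) i) -
        (nmap J (res2 a i j)).comp (LinearMap.proj (φ := fun i => R1 a R i ⊗[A] J) j) from rfl,
    LinearMap.lTensor_sub, LinearMap.sub_apply, map_sub, LinearMap.lTensor_comp_apply, LinearMap.lTensor_comp_apply,
    beta_map hJ (D.thC1 i) (D.thC2 i j) (res1 a i j) ((res1 a (R := C) i j).restrictScalars A) (D.compat i i j (res1 a i j) (res1 a i j)),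
    beta_map hJ (D.thC1 j) (D.thC2 i j) (res2 a i j) ((res2 a (R := C) i j).restrictScalars A) (D.compat j i j (res2 a i j) (res2 a i j))]
  rfl

end Groth.Agent.EtLift7
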