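import Mathlib

/-! A flat ring map which is bijective modulo `I` does not see `I`-power torsion. -/

set_option autoImplicit false
universe u v w

namespace Groth.Agent.EtLift7

open TensorProduct

variable {R : Type u} [CommRing R] {S : Type v} [CommRing S] [Algebra R S] {I : Ideal R}

/-- `S` is `R` modulo `I`. -/
structure IsoMod (S : Type v) [CommRing S] [Algebra R S] (I : Ideal R) : Prop where
  surj : ∀ s : S, ∃ r : R, s - algebraMap R S r ∈ I.map (algebraMap R S)
  inj : ∀ r : R, algebraMap R S r ∈ I.map (algebraMap R S) → r ∈ I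

theorem IsoMod.exists_sub_mem_pow (h : IsoMod S I) : ∀ (n : ℕ) (s : S),
    ∃ r : R, s - algebraMap R S r ∈ (I ^ n).map (algebraMap R S) := by
  intro n
  induction n with
  | zero => exact fun s => ⟨0, by simp [Ideal.map_top]⟩
  | succ n ih =>
    have key : ∀ x ∈ I.map (algebraMap R S), ∃ r : R, x - algebraMap R S r ∈ (I ^ (n + 1)).map (algebraMap R S) := by
      intro x hx
      induction hx using Submodule.span_induction with
      | mem x hx =>
        obtain ⟨ι, -, rfl⟩ := hx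
        exact ⟨ι, by simp⟩
      | zero => exact ⟨0, by simp⟩
      | add x y _ _ hx hy =>
        obtain ⟨r, hr⟩ := hx; obtain ⟨r', hr'⟩ := hy
        refine ⟨r + r', ?_⟩
        rw [map_add]
        convert add_mem hr hr' using 1
        ring
      | smul c x hx' hx =>
        obtain ⟨r, hr⟩ := hx
        obtain ⟨t, ht⟩ := ih c
        have hrI : r ∈ I := h.inj r (by
          have := sub_mem hx' (Ideal.map_mono (Ideal.pow_le_self (Nat.succ_ne_zero n)) hr)
          rwa [sub_sub_cancel] at this)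
        refine ⟨t * r, ?_⟩
        rw [show c • x - algebraMap R S (t * r) = c * (x - algebraMap R S r) +
          (c - algebraMap R S t) * algebraMap R S r by rw [smul_eq_mul, map_mul]; ring]
        refine add_mem (Ideal.mul_mem_left _ _ hr) ?_
        rw [pow_succ, Ideal.map_mul]
        exact Ideal.mul_mem_mul ht (Ideal.mem_map_of_mem _ hrI)
    intro s
    obtain ⟨r, hr⟩ := h.surj s
    obtain ⟨r', hr'⟩ := key _ hr
    exact ⟨r + r', by rwa [map_add, ← sub_sub]⟩

theorem IsoMod.sup_eq_top (h : IsoMod S I) {K : Ideal R} (hK : K.map (algebraMap R S) = ⊤) : K ⊔ I = ⊤ := by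
  have key : ∀ x ∈ K.map (algebraMap R S), ∃ k ∈ K, x - algebraMap R S k ∈ I.map (algebraMap R S) := by
    intro x hx
    induction hx using Submodule.span_induction with
    | mem x hx =>
      obtain ⟨k, hk, rfl⟩ := hx
      exact ⟨k, hk, by simp⟩
    | zero => exact ⟨0, zero_mem _, by simp⟩
    | add x y _ _ hx hy =>
      obtain ⟨r, hrK, hr⟩ := hx; obtain ⟨r', hrK', hr'⟩ := hy
      refine ⟨r + r', add_mem hrK hrK', ?_⟩
      rw [map_add]
      convert add_mem hr hr' using 1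
      ring
    | smul c x _ hx =>
      obtain ⟨k, hk, hx⟩ := hx
      obtain ⟨t, ht⟩ := h.surj c
      refine ⟨t * k, K.mul_mem_left t hk, ?_⟩
      rw [show c • x - algebraMap R S (t * k) = c * (x - algebraMap R S k) +
        (c - algebraMap R S t) * algebraMap R S k by rw [smul_eq_mul, map_mul]; ring]
      exact add_mem (Ideal.mul_mem_left _ _ hx) (Ideal.mul_mem_right _ _ ht)
  obtain ⟨k, hk, h1⟩ := key 1 (hK ▸ Submodule.mem_top)
  rw [← map_one (algebraMap R S), ← map_sub] at h1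
  refine (Ideal.eq_top_iff_one _).2 ?_
  have := add_mem (Ideal.mem_sup_left hk) (Ideal.mem_sup_right (h.inj _ h1) : 1 - k ∈ K ⊔ I)
  rwa [add_sub_cancel] at this

variable {Q : Type w} [AddCommGroup Q] [Module R Q]

theorem IsoMod.eq_zero (h : IsoMod S I) [Module.Flat R S] (q : Q) (hq : ∃ n : ℕ, ∀ ι ∈ I ^ n, ι • q = 0)
    (h0 : (1 : S) ⊗ₜ[R] q = 0) : q = 0 := by
  obtain ⟨n, hn⟩ := hq
  let K' : Ideal R := LinearMap.ker (LinearMap.toSpanSingleton R Q q)
  let f : (R ⧸ K') →ₗ[R] Q := Submodule.liftQ K' (LinearMap.toSpanSingleton R Q q) le_rfl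
  have hf : Function.Injective f := LinearMap.ker_eq_bot.1 (Submodule.ker_liftQ_eq_bot _ _ _ le_rfl)
  have h1 : (1 : S) ⊗ₜ[R] (Ideal.Quotient.mk K' 1) = 0 := by
    refine Module.Flat.lTensor_preserves_injective_linearMap (M := S) f hf ?_
    rw [map_zero, LinearMap.lTensor_tmul]
    refine (congrArg ((1 : S) ⊗ₜ[R] ·) ?_).trans h0
    show LinearMap.toSpanSingleton R Q q 1 = q
    simp
  have hK : K'.map (algebraMap R S) = ⊤ := by
    let χ : S ⊗[R] (R ⧸ K') →ₐ[R] S ⧸ K'.map (algebraMap R S) :=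
      Algebra.TensorProduct.lift (IsScalarTower.toAlgHom R S _)
        (Ideal.Quotient.liftₐ K' (Algebra.ofId R _) fun k hk => by
          show algebraMap R (S ⧸ K'.map (algebraMap R S)) k = 0
          rw [IsScalarTower.algebraMap_apply R S, Ideal.Quotient.algebraMap_eq, Ideal.Quotient.eq_zero_iff_mem]
          exact Ideal.mem_map_of_mem _ hk) fun _ _ => .all _ _
    refine (Ideal.eq_top_iff_one _).2 (Ideal.Quotient.eq_zero_iff_mem.1 ?_)
    have := congrArg χ h1
    rw [map_zero, map_one (Ideal.Quotient.mk K')] at this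
    rw [map_one (Ideal.Quotient.mk _), ← map_one χ]
    exact this
  have htop : K' = ⊤ := by
    rw [eq_top_iff, ← Ideal.sup_pow_eq_top (h.sup_eq_top hK) (n := n)]
    exact sup_le le_rfl fun ι hι => LinearMap.mem_ker.2 (hn ι hι)
  have : (1 : R) ∈ K' := htop ▸ Submodule.mem_top
  simpa [K'] using this

theorem IsoMod.exists_eq_tmul (h : IsoMod S I) (hQ : ∀ q : Q, ∃ n : ℕ, ∀ ι ∈ I ^ n, ι • q = 0) (t : S ⊗[R] Q) :
    ∃ q : Q, t = (1 : S) ⊗ₜ q := by
  induction t using TensorProduct.induction_on with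
  | zero => exact ⟨0, by simp⟩
  | add x y hx hy =>
    obtain ⟨q, rfl⟩ := hx; obtain ⟨q', rfl⟩ := hy
    exact ⟨q + q', (tmul_add _ _ _).symm⟩
  | tmul s q =>
    obtain ⟨n, hn⟩ := hQ q
    obtain ⟨r, hr⟩ := h.exists_sub_mem_pow n s
    have key : ∀ x ∈ (I ^ n).map (algebraMap R S), x ⊗ₜ[R] q = 0 := by
      intro x hx
      induction hx using Submodule.span_induction with
      | mem x hx =>
        obtain ⟨ι, hι, rfl⟩ := hx
        rw [Algebra.algebraMap_eq_smul_one, smul_tmul, hn ι hι, tmul_zero]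
      | zero => simp
      | add x y _ _ hx hy => rw [add_tmul, hx, hy, add_zero]
      | smul c x _ hx => rw [← smul_tmul', hx, smul_zero]
    refine ⟨r • q, ?_⟩
    rw [← sub_eq_zero, ← smul_tmul, ← Algebra.algebraMap_eq_smul_one, ← sub_tmul]
    exact key _ hr

section Complex

variable {N P : Type w} [AddCommGroup N] [Module R N] [AddCommGroup P] [Module R P]
  (ρ : N →ₗ[R] P) (δ : P →ₗ[R] Q)

/-- A torsion class killed by `S` comes from the source. -/
theorem IsoMod.mem_range (h : IsoMod S I) [Module.Flat R S] (e : Q)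
    (htor : ∃ n : ℕ, ∀ ι ∈ I ^ n, ι • e ∈ LinearMap.range δ)
    (f : S ⊗[R] P) (hf : δ.lTensor S f = (1 : S) ⊗ₜ e) : e ∈ LinearMap.range δ := by
  obtain ⟨n, hn⟩ := htor
  refine (Submodule.Quotient.mk_eq_zero _).1 (h.eq_zero (Q := Q ⧸ LinearMap.range δ) _ ⟨n, fun ι hι => ?_⟩ ?_)
  · rw [← Submodule.Quotient.mk_smul, Submodule.Quotient.mk_eq_zero]
    exact hn ι hι
  · show (LinearMap.range δ).mkQ.lTensor S ((1 : S) ⊗ₜ e) = 0
    rw [← hf, ← LinearMap.lTensor_comp_apply, show (LinearMap.range δ).mkQ.comp δ = 0 from LinearMap.ext fun x =>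
      (Submodule.Quotient.mk_eq_zero _).2 ⟨x, rfl⟩, LinearMap.lTensor_zero, LinearMap.zero_apply]

/-- An element of the kernel comes from the kernel and the source. -/
theorem IsoMod.exists_decomp (h : IsoMod S I) [Module.Flat R S] (hρδ : δ.comp ρ = 0)
    (htor : ∀ g : P, δ g = 0 → ∃ n : ℕ, ∀ ι ∈ I ^ n, ι • g ∈ LinearMap.range ρ)
    (t : S ⊗[R] P) (ht : δ.lTensor S t = 0) :
    ∃ (g : P) (u : S ⊗[R] N), δ g = 0 ∧ t = (1 : S) ⊗ₜ g + ρ.lTensor S u := by
  obtain ⟨t', rfl⟩ := (Module.Flat.lTensor_exact S (LinearMap.exact_subtype_ker_map δ) t).1 ht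
  let ρ' : N →ₗ[R] LinearMap.ker δ := ρ.codRestrict _ fun n => LinearMap.congr_fun hρδ n
  obtain ⟨q, hq⟩ := h.exists_eq_tmul (Q := LinearMap.ker δ ⧸ LinearMap.range ρ') (fun q => by
    obtain ⟨g, rfl⟩ := Submodule.Quotient.mk_surjective _ q
    obtain ⟨n, hn⟩ := htor g g.2
    refine ⟨n, fun ι hι => ?_⟩
    rw [← Submodule.Quotient.mk_smul, Submodule.Quotient.mk_eq_zero]
    obtain ⟨x, hx⟩ := hn ι hι
    exact ⟨x, Subtype.ext hx⟩) ((LinearMap.range ρ').mkQ.lTensor S t')
  obtain ⟨g, rfl⟩ := Submodule.Quotient.mk_surjective _ q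
  have hex : Function.Exact ρ' (LinearMap.range ρ').mkQ := LinearMap.exact_map_mkQ_range ρ'
  have hz : (LinearMap.range ρ').mkQ.lTensor S (t' - (1 : S) ⊗ₜ g) = 0 := by
    rw [map_sub, hq]; exact sub_self _
  obtain ⟨u, hu⟩ := (lTensor_exact S hex (Submodule.mkQ_surjective _) _).1 hz
  refine ⟨g, u, g.2, ?_⟩
  have := congrArg ((LinearMap.ker δ).subtype.lTensor S) hu
  rw [← LinearMap.lTensor_comp_apply, map_sub, LinearMap.lTensor_tmul] at this
  rw [show ρ.lTensor S u = ((LinearMap.ker δ).subtype.comp ρ').lTensor S u from rfl, this]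
  exact (add_sub_cancel _ _).symm

/-- The kernel of the base change comes from the kernel. -/
theorem IsoMod.exists_mem_ker (h : IsoMod S I) [Module.Flat R S]
    (htor : ∀ m : N, ρ m = 0 → ∃ n : ℕ, ∀ ι ∈ I ^ n, ι • m = 0)
    (u : S ⊗[R] N) (hu : ρ.lTensor S u = 0) : ∃ m : N, ρ m = 0 ∧ u = (1 : S) ⊗ₜ m := by
  obtain ⟨u', rfl⟩ := (Module.Flat.lTensor_exact S (LinearMap.exact_subtype_ker_map ρ) u).1 hu
  obtain ⟨m, rfl⟩ := h.exists_eq_tmul (Q := LinearMap.ker ρ) (fun q => by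
    obtain ⟨n, hn⟩ := htor q q.2
    exact ⟨n, fun ι hι => Subtype.ext (hn ι hι)⟩) u'
  exact ⟨m, m.2, LinearMap.lTensor_tmul _ _ _ _⟩

end Complex

/-- Torsion is tested on generators. -/
theorem exists_pow_smul_mem {N : Type w} [AddCommGroup N] [Module R N] {r : ℕ} (a : Fin r → R)
    (hI : I = Ideal.span (Set.range a)) (M : Submodule R N) (x : N)
    (h : ∀ k, ∃ m : ℕ, a k ^ m • x ∈ M) : ∃ n : ℕ, ∀ ι ∈ I ^ n, ι • x ∈ M := by
  let K : Ideal R := M.comap (LinearMap.toSpanSingleton R N x)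
  obtain ⟨n, hn⟩ := Ideal.exists_pow_le_of_le_radical_of_fg (I := I) (J := K) (hI ▸ Ideal.span_le.2 (by
    rintro _ ⟨k, rfl⟩
    obtain ⟨m, hm⟩ := h k
    exact ⟨m, hm⟩)) (hI ▸ Submodule.fg_span (Set.finite_range a))
  exact ⟨n, fun ι hι => hn hι⟩

end Groth.Agent.EtLift7
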